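import Cfsg.Agent.Cit.TwoP.XPair
import Cfsg.Agent.Cit.TwoPF.Pairs

/-!
# The facts on pairs `TwoPF.PF` from `NP`
-/

set_option autoImplicit false

namespace Cfsg.Agent.Cit.TwoX

open Subgroup Cfsg Cit OneBasic TwoFK TwoPF

variable {G : Type*} [Group G] [Finite G] {Om : Set (Subgroup G)}

theorem pf (b : TwoEq Om) (k1 : K1 Om) (hS : NSym Om) (hN : NP Om) : PF Om where
  b := b
  k1 := k1
  sym := hS
  xd := by
    intro K hK L hL hc nK A hA hAK hAL
    have hAz : A ≤ centralizer {zz K} ⊓ centralizer {zz L} := fun a ha =>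
      ⟨mem_centralizer_singleton_iff.2 ((hAK a ha).comm b.hyp (zz_mem_Zs hK)),
        mem_centralizer_singleton_iff.2 (hAL a ha)⟩
    obtain ⟨x, hx, y, hy, h1, h2, h3, h4, h5⟩ := xd b k1 hS hN hK hL hc nK hA hAz hAK
    exact ⟨x, y, ⟨h1, h2, h3⟩, fun a ha => (h4 a ha).1, fun hP a ha => (h5 hP a ha).1⟩
  chi := fun K hK L hL hc nK a hp hs => chi0 b k1 hS hN hK hL hc nK hp hs

end Cfsg.Agent.Cit.TwoX
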