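import Cfsg.Agent.Cit.TwoP.NotSolv
import Cfsg.Agent.Cit.OneF.End

/-!
# `|Om(S)| = 2`, equal involutions: `WW = 1`

`eq_one_of_WW`: `L2 Om`, `Crit Om`, S1173 and the existence of an element `s ∼ z` of `C_G(B(S))` which swaps
`K` and `K'` imply `WW = 1`.  `exists_conj`: such an element from a pair `(K, L)` with `x x ^ s = y y ^ z`.
-/

set_option autoImplicit false
set_option linter.style.haveILetI false
set_option linter.unusedSectionVars false

namespace Cfsg.Agent.Cit.TwoP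

open Subgroup Cfsg Cit OneBasic TwoFK

variable {G : Type*} [Group G] [Finite G] {Om : Set (Subgroup G)}

/-- `z ∼ s` in the centraliser of `B(R)` -/
theorem exists_conj (b : TwoEq Om) {K L R R' T : Subgroup G} (hK : K ∈ Om) (hL : L ∈ Om)
    (hR : Syl R (centralizer {zz K})) (hRt : Syl R ⊤) (hR' : Syl R' (centralizer {zz L}))
    (hT : Syl T (centralizer {zz K} ⊓ centralizer {zz L})) (hTR : T ≤ R) (hTR' : T ≤ R')
    (hzL : zz L ∈ R) {x y : G} (hx : x ∈ K ⊓ R) (hy : y ∈ L ⊓ R') (hx2 : x * x = zz K) (hy2 : y * y = zz L)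
    (hxy : x * (zz L * x * (zz L)⁻¹) = y * (zz K * y * (zz K)⁻¹)) :
    ∃ g ∈ centralizer (BB b hRt.2.1 : Set G), g * zz K * g⁻¹ = zz L := by
  have hzK : zz K ∈ R := by
    have h1 : zpowers (zz K) ≤ R := by
      refine syl_le_of_normalizes hR (Zs_isP b.hyp (zz_mem_Zs hK)) ?_ ?_
      · rw [zpowers_le, mem_centralizer_singleton_iff]
      · intro a ha
        apply mem_normalizer_of_cent
        rintro _ ⟨k, rfl⟩
        exact ((show Commute a (zz K) from mem_centralizer_singleton_iff.1 (hR.1 ha)).zpow_right k).eq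
    exact h1 (mem_zpowers _)
  have hTe : T = R ⊓ centralizer {zz L} := by
    refine syl_eq_of_le hT (hRt.2.1.to_le inf_le_left) (inf_le_inf_right _ hR.1) ?_
    exact le_inf hTR (hT.1.trans inf_le_right)
  have hxc : x ∈ centralizer (BB b hRt.2.1 : Set G) := by
    rw [mem_centralizer_iff]
    intro f hf
    exact le_centralizer_inf b hK hR hf.1 (hf.2 K hK hzK) x hx
  have hyc : y ∈ centralizer (BB b hRt.2.1 : Set G) := by
    rw [mem_centralizer_iff]
    intro f hf
    have h1 := hf.2 L hL hzL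
    have h2 : f ∈ R' := by
      apply hTR'
      rw [hTe]
      exact ⟨hf.1, mem_centralizer_singleton_iff.2 (perp_comm b.hyp hL h1)⟩
    exact le_centralizer_inf b hL hR' h2 h1 y hy
  have hzs : zz K * zz L = zz L * zz K := (mem_centralizer_singleton_iff.1 (hR.1 hzL)).symm
  have hzz := b.hyp.zz_mul hK
  have hss := b.hyp.zz_mul hL
  have hzi : (zz K)⁻¹ = zz K := inv_eq_of_mul_eq_one_right hzz
  have hsi : (zz L)⁻¹ = zz L := inv_eq_of_mul_eq_one_right hss
  have hxi : x⁻¹ = x * zz K := by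
    rw [inv_eq_iff_mul_eq_one, ← hx2]
    have h4 : x * (x * (x * x)) = (x * x) * (x * x) := by group
    rw [h4, hx2, hzz]
  have hyi : y⁻¹ = y * zz L := by
    rw [inv_eq_iff_mul_eq_one, ← hy2]
    have h4 : y * (y * (y * y)) = (y * y) * (y * y) := by group
    rw [h4, hy2, hss]
  have e1 : y * zz K * y⁻¹ = y * (zz K * y * (zz K)⁻¹) * (zz K * zz L) := by
    rw [hyi, hzi]
    calc y * zz K * (y * zz L) = y * (zz K * y) * zz L := by group
      _ = y * (zz K * y) * (zz K * zz K) * zz L := by rw [hzz, mul_one]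
      _ = y * (zz K * y * zz K) * (zz K * zz L) := by group
  have e2 : x * zz L * x⁻¹ = x * (zz L * x * (zz L)⁻¹) * (zz L * zz K) := by
    rw [hxi, hsi]
    calc x * zz L * (x * zz K) = x * (zz L * x) * zz K := by group
      _ = x * (zz L * x) * (zz L * zz L) * zz K := by rw [hss, mul_one]
      _ = x * (zz L * x * zz L) * (zz L * zz K) := by group
  refine ⟨x⁻¹ * y, mul_mem (inv_mem hxc) hyc, ?_⟩
  calc x⁻¹ * y * zz K * (x⁻¹ * y)⁻¹ = x⁻¹ * (y * zz K * y⁻¹) * x := by group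
    _ = x⁻¹ * (x * zz L * x⁻¹) * x := by rw [e1, e2, hxy, hzs]
    _ = zz L := by group

/-- **`WW = 1`** -/
theorem eq_one_of_WW (b : TwoEq Om) (hT2 : ∀ K ∈ Om, TyTwo K) (h2 : L2 Om) (hc : Crit Om)
    {S K K' : Subgroup G} {s g : G} (hS : Syl S ⊤) (m : Mate Om K K') (hz : zz K ∈ S) (hs : cj s K = K')
    (hg : g ∈ centralizer (BB b hS.2.1 : Set G)) (hgs : g * zz K * g⁻¹ = s)
    (h1173 : OneF.H1173 G)
    (hN : ∀ N : Subgroup G, N.Normal → ¬ Group.IsSolvable N → centralizer (N : Set G) = ⊥) {f : G}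
    (hw : WW Om f) : f = 1 := by
  haveI : Fact (Nat.Prime 2) := ⟨Nat.prime_two⟩
  refine eq_one_of_WW_of_BB b h2 hS ?_ hw
  obtain ⟨P, hP⟩ : ∃ P : Sylow 2 G, (P : Subgroup G) = S := by
    refine ⟨hS.2.1.toSylow ?_, rfl⟩
    have := hS.2.2
    rwa [relIndex_top_right] at this
  have h1 := h1173 P (BB b hS.2.1) (by rw [hP]; exact stronglyClosed b h2 hc hS)
  rw [← TwoFusion.PerfCore.perf_eq_iInf] at h1
  have h2 : ¬ Group.IsSolvable (TwoFusion.PerfCore.perf (centralizer (BB b hS.2.1 : Set G))) := by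
    intro h3
    have h4 := TwoFusion.PerfCore.perf_eq_bot_of_solvable h3
    rw [TwoFusion.PerfCore.perf_perf] at h4
    refine not_solvable b m (hT2 K m.hK) (hS.2.1.to_le (BB_le b hS.2.1)) ?_ hs hg hgs
      (TwoFusion.PerfCore.solvable_of_perf_eq_bot h4)
    intro f hf
    exact hf.2 K m.hK hz
  have h3 := hN _ h1 h2
  rw [eq_bot_iff, ← h3]
  intro b hb
  rw [mem_centralizer_iff]
  intro x hx
  have h4 := TwoFusion.PerfCore.perf_le _ hx
  exact (mem_centralizer_iff.1 h4 b hb).symm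

end Cfsg.Agent.Cit.TwoP
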