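import Cfsg.Agent.Cit.TwoFK.Base
import Cfsg.Agent.Cit.OnePerp
import Cfsg.Agent.Cit.OneF.LTwo
import Cfsg.Prelude.Def_TwoFusion

/-!
# `|Om(S)| = 2`, equal involutions: the set `WW` and the strongly closed subgroup `B(S)`

* `PP Om b z`: `b ⊥ L` for every member `L` over `z`.
* `WW Om b`: `b ⊥ z` for some `z = zz K` and `b ⊥ s` for all `s = zz L` commuting with `z` and `b`.
* `WW.pp` (L1): then `b ⊥ s` for all `s = zz L` commuting with `b`.
* `BB`: the elements `b ∈ S` with `b ⊥ L` for all `L` with `zz L ∈ S`; strongly closed if `L2 Om` and `Crit Om`.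
-/

set_option autoImplicit false
set_option linter.style.haveILetI false
set_option linter.unusedSectionVars false

namespace Cfsg.Agent.Cit.TwoP

open Subgroup Cfsg Cit OneBasic TwoFK

variable {G : Type*} [Group G]

/-- `b ⊥ z` -/
def PP (Om : Set (Subgroup G)) (b z : G) : Prop := ∀ L ∈ Om, zz L = z → Perp b L

/-- `b ⊥ z` for some `z = zz K`, and `b ⊥ s` for all `s = zz L` commuting with `z` and `b` -/
def WW (Om : Set (Subgroup G)) (b : G) : Prop :=
  ∃ K ∈ Om, PP Om b (zz K) ∧ ∀ L ∈ Om, zz K * zz L = zz L * zz K → b * zz L = zz L * b → PP Om b (zz L)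

/-- elements of `WW` commute with the member involutions in a common 2-group -/
def L2 (Om : Set (Subgroup G)) : Prop := ∀ b : G, WW Om b → ∀ S : Subgroup G, IsPGroup 2 S → b ∈ S →
  ∀ L ∈ Om, zz L ∈ S → b * zz L = zz L * b

/-- the criterion for `b ∈ WW` -/
def Crit (Om : Set (Subgroup G)) : Prop := ∀ S : Subgroup G, Syl S ⊤ → ∀ b ∈ S,
  (∀ L ∈ Om, zz L ∈ S → Perp b L) → WW Om b

theorem perp_comm [Finite G] {Om : Set (Subgroup G)} (h : Hyp Om) {K : Subgroup G} (hK : K ∈ Om) {b : G}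
    (hb : Perp b K) : b * zz K = zz K * b := h.comm_zz hK hb.mem

section PP

variable [Finite G] {Om : Set (Subgroup G)}

theorem PP.comm (h : Hyp Om) {K : Subgroup G} (hK : K ∈ Om) {b : G} (hb : PP Om b (zz K)) :
    b * zz K = zz K * b := perp_comm h hK (hb K hK rfl)

theorem PP.conj (h : Hyp Om) {b z : G} (hb : PP Om b z) (g : G) : PP Om (g * b * g⁻¹) (g * z * g⁻¹) := by
  intro L hL hz
  have h1 : zz (cj g⁻¹ L) = z := by
    rw [h.zz_cj hL, hz]; group
  have h2 := (hb _ (h.conj L hL g⁻¹) h1).cj g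
  rwa [cj_cj_inv] at h2

theorem PP.conj_comm (h : Hyp Om) {b z : G} (hb : PP Om b z) {g : G} (hg : g * b = b * g) :
    PP Om b (g * z * g⁻¹) := by
  have := hb.conj h g
  rwa [hg, mul_inv_cancel_right] at this

theorem PP.of_conj_comm (h : Hyp Om) {b z g : G} (hg : g * b = b * g) (hb : PP Om b (g * z * g⁻¹)) :
    PP Om b z := by
  have h1 : g⁻¹ * b = b * g⁻¹ := ((show Commute g b from hg).inv_left).eq
  have h2 := hb.conj_comm h h1
  have h3 : g⁻¹ * (g * z * g⁻¹) * g⁻¹⁻¹ = z := by group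
  rwa [h3] at h2

theorem WW.conj (h : Hyp Om) {b : G} (hb : WW Om b) (g : G) : WW Om (g * b * g⁻¹) := by
  obtain ⟨K, hK, h1, h2⟩ := hb
  refine ⟨cj g K, h.conj K hK g, ?_, ?_⟩
  · rw [h.zz_cj hK]; exact h1.conj h g
  · intro L hL hc hbL
    have hL' := h.conj L hL g⁻¹
    have e1 : zz (cj g⁻¹ L) = g⁻¹ * zz L * g := by rw [h.zz_cj hL, inv_inv]
    have e2 : g * (g⁻¹ * zz L * g) * g⁻¹ = zz L := by group
    have h3 : PP Om b (zz (cj g⁻¹ L)) := by
      apply h2 _ hL'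
      · rw [e1]
        rw [h.zz_cj hK] at hc
        calc zz K * (g⁻¹ * zz L * g) = g⁻¹ * (g * zz K * g⁻¹ * zz L) * g := by group
          _ = g⁻¹ * (zz L * (g * zz K * g⁻¹)) * g := by rw [hc]
          _ = _ := by group
      · rw [e1]
        calc b * (g⁻¹ * zz L * g) = g⁻¹ * (g * b * g⁻¹ * zz L) * g := by group
          _ = g⁻¹ * (zz L * (g * b * g⁻¹)) * g := by rw [hbL]
          _ = _ := by group
    have h4 := h3.conj h g
    rwa [e1, e2] at h4

theorem WW.isP {b : G} (hb : WW Om b) : IsPGroup 2 (zpowers b) := by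
  obtain ⟨K, hK, h1, -⟩ := hb
  exact (h1 K hK rfl).p

end PP

variable [Finite G] {Om : Set (Subgroup G)}

/-- elements centralising a Sylow 2-subgroup of `K` normalised by them -/
theorem le_centralizer_inf (b : TwoEq Om) {K R : Subgroup G} (hK : K ∈ Om) (hR : Syl R (centralizer {zz K}))
    {f : G} (hf : f ∈ R) (hp : Perp f K) : ∀ x ∈ K ⊓ R, f * x = x * f := by
  refine hp.cent b.hyp hK (b.syl_inf hK hR) ?_
  rw [mem_normalizer_iff_cj, cj_inf, mem_normalizer_iff_cj.1 hp.mem, mem_normalizer_iff_cj.1 (le_normalizer hf)]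

/-- a 2-group containing Sylow 2-subgroups of `K` and normalised .. centralises `zz K` -/
theorem le_centralizer_zz (b : TwoEq Om) {K Q T : Subgroup G} (hK : K ∈ Om) (hQ : Syl Q K) (hQT : Q ≤ T)
    (hT : IsPGroup 2 T) : T ≤ centralizer {zz K} := by
  haveI : Fact (Nat.Prime 2) := ⟨Nat.prime_two⟩
  obtain ⟨S, hTS⟩ := hT.exists_le_sylow
  have hKS : K ∈ OmS Om (S : Subgroup G) := mem_OmS_of_le hK hQ (hQT.trans hTS)
  intro t ht
  have h1 : cj t K ∈ OmS Om (S : Subgroup G) := cj_mem_OmS' b.hyp.conj (le_normalizer (hTS ht)) hKS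
  have h2 := b.same S _ h1 _ hKS
  rw [b.hyp.zz_cj hK] at h2
  rw [mem_centralizer_singleton_iff]
  calc t * zz K = (t * zz K * t⁻¹) * t := by group
    _ = zz K * t := by rw [h2]

/-- **(L)**: a Sylow 2-subgroup of `C(b)` centralises `z`, if `b ⊥ K`, `z = zz K` -/
theorem exists_syl_centralizer (b : TwoEq Om) {K : Subgroup G} (hK : K ∈ Om) {f : G} (hf : Perp f K) :
    ∃ T, Syl T (centralizer {f}) ∧ T ≤ centralizer {zz K} := by
  obtain ⟨hp, hn, Q, hQ, hc⟩ := hf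
  have h1 : Q ≤ centralizer {f} := fun x hx => mem_centralizer_singleton_iff.2 (hc x hx).symm
  obtain ⟨T, hT, hQT⟩ := OneBasic.exists_syl_ge hQ.2.1 h1
  exact ⟨T, hT, le_centralizer_zz b hK hQ hQT hT.2.1⟩

/-- **L1**: `b ∈ WW` is perpendicular to all member involutions which commute with `b` -/
theorem WW.pp (b : TwoEq Om) {f : G} (hw : WW Om f) {L : Subgroup G} (hL : L ∈ Om)
    (hc : f * zz L = zz L * f) : PP Om f (zz L) := by
  obtain ⟨K, hK, h1, h2⟩ := hw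
  obtain ⟨T, hT, hTz⟩ := exists_syl_centralizer b hK (h1 K hK rfl)
  obtain ⟨c, hcf, hcT⟩ := OneF.exists_conj_le hT (Zs_isP b.hyp (zz_mem_Zs hL))
    (by rw [zpowers_le, mem_centralizer_singleton_iff]; exact hc.symm)
  have hL' := b.hyp.conj L hL c
  have e1 : zz (cj c L) = c * zz L * c⁻¹ := b.hyp.zz_cj hL c
  have h3 : zz (cj c L) ∈ T := by rw [e1]; exact hcT (conj_mem_cj (mem_zpowers _))
  have h4 : PP Om f (zz (cj c L)) := by
    apply h2 _ hL'
    · exact (mem_centralizer_singleton_iff.1 (hTz h3)).symm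
    · exact (mem_centralizer_singleton_iff.1 (hT.1 h3)).symm
  rw [e1] at h4
  exact h4.of_conj_comm b.hyp hcf

/-- `B(S)`: the elements of `S` perpendicular to all members with involution in `S` -/
def BB (b : TwoEq Om) {S : Subgroup G} (hS : IsPGroup 2 S) : Subgroup G where
  carrier := {f | f ∈ S ∧ ∀ L ∈ Om, zz L ∈ S → Perp f L}
  one_mem' := ⟨S.one_mem, fun L _ _ => Perp.one L⟩
  mul_mem' := by
    rintro f g ⟨hf, hf'⟩ ⟨hg, hg'⟩
    refine ⟨S.mul_mem hf hg, fun L hL hz => ?_⟩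
    have h1 := hf' L hL hz
    have h2 := hg' L hL hz
    exact h1.mul b.hyp hL (A := S ⊓ normalizer (L : Set G)) (hS.to_le inf_le_left) inf_le_right
      ⟨hf, h1.mem⟩ ⟨hg, h2.mem⟩ h2
  inv_mem' := by
    rintro f ⟨hf, hf'⟩
    exact ⟨S.inv_mem hf, fun L hL hz => (hf' L hL hz).inv⟩

theorem mem_BB (b : TwoEq Om) {S : Subgroup G} (hS : IsPGroup 2 S) {f : G} :
    f ∈ BB b hS ↔ f ∈ S ∧ ∀ L ∈ Om, zz L ∈ S → Perp f L := Iff.rfl

theorem BB_le (b : TwoEq Om) {S : Subgroup G} (hS : IsPGroup 2 S) : BB b hS ≤ S := fun _ hb => hb.1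

theorem mem_BB_of_WW (b : TwoEq Om) (h2 : L2 Om) {S : Subgroup G} (hS : IsPGroup 2 S) {f : G} (hf : f ∈ S)
    (hw : WW Om f) : f ∈ BB b hS :=
  ⟨hf, fun L hL hz => hw.pp b hL (h2 f hw S hS hf L hL hz) L hL rfl⟩

/-- **`B(S)` is strongly closed** -/
theorem stronglyClosed (b : TwoEq Om) (h2 : L2 Om) (hc : Crit Om) {S : Subgroup G} (hS : Syl S ⊤) :
    IsStronglyClosed (BB b hS.2.1) S :=
  ⟨BB_le b hS.2.1, fun f hf g hg => mem_BB_of_WW b h2 hS.2.1 hg ((hc S hS f hf.1 hf.2).conj b.hyp g)⟩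

/-- if `B(S) = 1` then `WW = 1` -/
theorem eq_one_of_WW_of_BB (b : TwoEq Om) (h2 : L2 Om) {S : Subgroup G} (hS : Syl S ⊤) (hB : BB b hS.2.1 = ⊥)
    {f : G} (hw : WW Om f) : f = 1 := by
  obtain ⟨R, hR, hfR⟩ := OneBasic.exists_syl_ge hw.isP (le_top : zpowers f ≤ ⊤)
  obtain ⟨g, -, hg⟩ := hR.exists_conj hS
  have h1 : g * f * g⁻¹ ∈ S := by rw [← hg]; exact conj_mem_cj (hfR (mem_zpowers f))
  have h3 := mem_BB_of_WW b h2 hS.2.1 h1 (hw.conj b.hyp g)
  rw [hB, mem_bot] at h3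
  calc f = g⁻¹ * (g * f * g⁻¹) * g := by group
    _ = 1 := by rw [h3]; group

end Cfsg.Agent.Cit.TwoP
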