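import Cfsg.Agent.Cit.TwoP.Setup

/-!
# `|Om(S)| = 2`, `z₁ = z₂`: frames and the set `TT`
-/

set_option autoImplicit false
set_option linter.style.haveILetI false
set_option linter.unusedSectionVars false
set_option linter.unusedVariables false

namespace Cfsg.Agent.Cit.TwoP

open Subgroup Cfsg OneBasic
open scoped Pointwise

variable {G : Type*} [Group G]

section tools

variable [Finite G]

theorem conj_four_eq {x g : G} (h4 : orderOf x = 4) : orderOf (g * x * g⁻¹) = 4 := by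
  rw [← h4]; exact (MulAut.conj g).orderOf_eq x

end tools

namespace Dbl

variable [Finite G] {Om : Set (Subgroup G)} {K K' L L' S : Subgroup G}

/-- the members of a pair are in `Om(S)` for `S` Sylow in `C(z)` -/
theorem exists_frame (h : Dbl Om) (hP : Pt Om K K') {A : Subgroup G} (hA : IsPGroup 2 A)
    (hAz : A ≤ centralizer {zz K}) : ∃ S, A ≤ S ∧ Fz Om K K' S := by
  obtain ⟨S, hS, hAS⟩ := OneBasic.exists_syl_ge hA hAz
  exact ⟨S, hAS, hP, hS⟩

end Dbl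

namespace Fz

variable [Finite G] {Om : Set (Subgroup G)} {K K' S : Subgroup G}

theorem symm (h : Dbl Om) (f : Fz Om K K' S) : Fz Om K' K S :=
  ⟨f.pt.symm, by rw [← h.same _ _ f.pt]; exact f.syl⟩

theorem p (f : Fz Om K K' S) : IsPGroup 2 S := f.syl.2.1

theorem kS (h : Dbl Om) (f : Fz Om K K' S) : K ∈ OmS Om S := mem_OmS_of_zz h.hyp f.pt.left f.syl

theorem kS' (h : Dbl Om) (f : Fz Om K K' S) : K' ∈ OmS Om S := (f.symm h).kS h

theorem sylK (h : Dbl Om) (f : Fz Om K K' S) : Syl (K ⊓ S) K := syl_inf f.p (f.kS h)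

theorem sylK' (h : Dbl Om) (f : Fz Om K K' S) : Syl (K' ⊓ S) K' := (f.symm h).sylK h

theorem comm (h : Dbl Om) (f : Fz Om K K' S) {a b : G} (ha : a ∈ K ⊓ S) (hb : b ∈ K' ⊓ S) : a * b = b * a :=
  h.hyp.comm f.p (f.kS h) (f.kS' h) f.pt.1 ha hb

theorem comm_z (f : Fz Om K K' S) {g : G} (hg : g ∈ S) : g * zz K = zz K * g :=
  mem_centralizer_singleton_iff.1 (f.syl.1 hg)

theorem zS (h : Dbl Om) (f : Fz Om K K' S) : zz K ∈ K ⊓ S := h.hyp.zz_mem_inf f.p (f.kS h)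

theorem p_zpowers (f : Fz Om K K' S) {g : G} (hg : g ∈ S) : IsPGroup 2 (zpowers g) :=
  f.p.to_le (zpowers_le.2 hg)

theorem norm (f : Fz Om K K' S) {g : G} (hg : g ∈ S) (hK : cj g K = K) :
    g ∈ normalizer ((K ⊓ S : Subgroup G) : Set G) := by
  rw [mem_normalizer_iff_cj, cj_inf, hK, mem_normalizer_iff_cj.1 (le_normalizer hg)]

theorem cj_inf_eq (f : Fz Om K K' S) {g : G} (hg : g ∈ S) (hK : cj g K = K') : cj g (K ⊓ S) = K' ⊓ S := by
  rw [cj_inf, hK, mem_normalizer_iff_cj.1 (le_normalizer hg)]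

theorem inf_eq (h : Dbl Om) (f : Fz Om K K' S) {x : G} (hx : x ∈ K ⊓ S) (hx' : x ∈ K') : x = 1 ∨ x = zz K := by
  rcases inf_inf_le h.hyp f.p (f.kS h) (f.kS' h) f.pt.1 hx hx' with h1 | h1
  · exact Or.inl h1
  · exact Or.inr h1.1

/-- coordinates -/
theorem exists_gq (h : Dbl Om) (f : Fz Om K K' S) : ∃ c v n, GQ (K ⊓ S) c v (zz K) n :=
  h.hyp.exists_gq f.pt.left (f.sylK h)

theorem cj (h : Dbl Om) (f : Fz Om K K' S) (g : G) : Fz Om (Cit.cj g K) (Cit.cj g K') (Cit.cj g S) := by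
  refine ⟨h.pt_cj f.pt g, ?_⟩
  rw [h.hyp.zz_cj f.pt.left, ← cj_centralizer]
  exact f.syl.cj g

theorem cj_of_fix (h : Dbl Om) (f : Fz Om K K' S) {g : G} (hg : Cit.cj g K = K) :
    Fz Om K K' (Cit.cj g S) := by
  have f' := f.cj h g
  have h1 : Cit.cj g K' = K' := by
    have h2 := h.cj_or f.pt (h.hyp.comm_zz f.pt.left (mem_normalizer_iff_cj.2 hg))
    rcases h2 with h2 | h2
    · exact h2.2
    · exact absurd (hg.symm.trans h2.1) f.pt.1
  rwa [hg, h1] at f'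

/-- elements of order four of `K ⊓ S` are conjugate by elements of `K` commuting with `K' ⊓ S` -/
theorem conj_four (h : Dbl Om) (f : Fz Om K K' S) {x y : G} (hx : x ∈ K ⊓ S) (hy : y ∈ K ⊓ S)
    (hx4 : orderOf x = 4) (hy4 : orderOf y = 4) :
    ∃ k ∈ K, (∀ a ∈ K' ⊓ S, k * a = a * k) ∧ k * x * k⁻¹ = y := by
  refine h.hyp.conj_four_rel f.pt.left
    (fun x hx y hy hx4 hy4 => h.hyp.conj_four f.pt.left (h.odd K f.pt.left) hx hy hx4 hy4)
    (f.sylK h) (A := K' ⊓ S) (f.p.to_le inf_le_right)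
    (inf_le_left.trans (h.le_normalizer_of_pt f.pt.symm)) ?_ hx hy hx4 hy4
  intro a ha q hq
  exact (f.comm h hq ha).symm

/-- a 2-element of `K ⊔ K'` in `S` is a product of elements of `K ⊓ S` and `K' ⊓ S` -/
theorem exists_mul (h : Dbl Om) (f : Fz Om K K' S) {x : G} (hx : x ∈ S) (hxK : x ∈ K ⊔ K') :
    ∃ a ∈ K ⊓ S, ∃ b ∈ K' ⊓ S, x = a * b := by
  have hn := h.le_normalizer_of_pt f.pt
  have hn' := h.le_normalizer_of_pt f.pt.symm
  obtain ⟨Q, hQ⟩ : ∃ Q, Q = K ⊓ S := ⟨_, rfl⟩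
  have hsyl := f.sylK h
  rw [← hQ] at hsyl
  have hQn : Q ≤ normalizer (K' : Set G) := hsyl.1.trans hn
  -- `Q ⊔ K'` has odd index in `K ⊔ K'`
  have hodd : ¬ 2 ∣ (Q ⊔ K').relIndex (K ⊔ K') := by
    have key : ∀ {A B : Subgroup G}, A ≤ normalizer (B : Set G) → B.relIndex (A ⊔ B) = B.relIndex A := by
      intro A B hAB
      have e1 := Lib.ProductSet.card_mul_card_inf A B
      have e2 : Nat.card ((A : Set G) * (B : Set G) : Set G) = Nat.card (A ⊔ B : Subgroup G) := by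
        rw [← coe_mul_of_left_le_normalizer_right A B hAB]
        rfl
      rw [e2] at e1
      have e3 := relIndex_mul_relIndex (⊥ : Subgroup G) B (A ⊔ B) bot_le le_sup_right
      have e4 := relIndex_mul_relIndex (⊥ : Subgroup G) (A ⊓ B) A bot_le inf_le_left
      rw [relIndex_bot_left, relIndex_bot_left] at e3 e4
      rw [inf_comm, inf_relIndex_right] at e4
      rw [← e3, ← e4, inf_comm] at e1
      have h7 : 0 < Nat.card B := Nat.card_pos
      have h8 : 0 < Nat.card (B ⊓ A : Subgroup G) := Nat.card_pos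
      have h9 : (Nat.card B * Nat.card (B ⊓ A : Subgroup G)) * B.relIndex (A ⊔ B) =
          (Nat.card B * Nat.card (B ⊓ A : Subgroup G)) * B.relIndex A := by
        linarith
      exact Nat.eq_of_mul_eq_mul_left (Nat.mul_pos h7 h8) h9
    have e1 := key hn
    have e2 := key hQn
    have e3 := relIndex_mul_relIndex K' (Q ⊔ K') (K ⊔ K') le_sup_right (sup_le_sup_right hsyl.1 _)
    have e4 := relIndex_mul_relIndex (Q ⊓ K') Q K inf_le_left hsyl.1
    have e5 := relIndex_mul_relIndex (Q ⊓ K') (K ⊓ K') K (inf_le_inf_right _ hsyl.1) inf_le_left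
    rw [inf_relIndex_left] at e4
    rw [inf_relIndex_left] at e5
    rw [e1, e2] at e3
    intro h2
    apply hsyl.2.2
    have h3 : K'.relIndex Q ≠ 0 := (K'.subgroupOf Q).index_ne_zero_of_finite
    have h4 : Q.relIndex K = (Q ⊔ K').relIndex (K ⊔ K') * (Q ⊓ K').relIndex (K ⊓ K') := by
      apply Nat.eq_of_mul_eq_mul_left (Nat.pos_of_ne_zero h3)
      rw [e4, ← e5, ← e3]
      ring
    rw [h4]
    exact h2.mul_right _
  have hxn : Cit.cj x K = K ∧ Cit.cj x K' = K' := by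
    constructor
    · rw [← mem_normalizer_iff_cj]
      exact (sup_le le_normalizer hn' : K ⊔ K' ≤ normalizer (K : Set G)) hxK
    · rw [← mem_normalizer_iff_cj]
      exact (sup_le hn le_normalizer : K ⊔ K' ≤ normalizer (K' : Set G)) hxK
  have hxW : x ∈ Q ⊔ K' := by
    refine mem_of_norm_odd (sup_le_sup_right hsyl.1 _) hodd (f.p_zpowers hx) hxK ?_
    rw [mem_normalizer_iff_cj, cj_sup, hxn.2, hQ, cj_inf, hxn.1, mem_normalizer_iff_cj.1 (le_normalizer hx)]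
  obtain ⟨a, ha, b, hb, rfl⟩ := exists_mul_of_mem_sup hQn hxW
  rw [hQ] at ha
  refine ⟨a, ha, b, ⟨hb, ?_⟩, rfl⟩
  have h1 : b = a⁻¹ * (a * b) := by group
  rw [h1]
  exact S.mul_mem (S.inv_mem ha.2) hx

/-- `⟨q₁, q₂⟩` quaternion of order eight in `K ⊓ S` -/
theorem exists_pair (h : Dbl Om) (f : Fz Om K K' S) : ∃ a ∈ K ⊓ S, ∃ b ∈ K ⊓ S, orderOf a = 4 ∧ orderOf b = 4 ∧
    orderOf (a * b) = 4 := by
  obtain ⟨c, v, n, hc⟩ := f.exists_gq h
  obtain ⟨a, ha, b, hb, h1, h2, h3, -⟩ := hc.exists_pair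
  exact ⟨a, ha, b, hb, h1, h2, h3⟩

end Fz

/-! ### The set `TT` -/

namespace Dbl

variable [Finite G] {Om : Set (Subgroup G)} {K K' L L' S : Subgroup G}

/-- the elements of `TTz` in terms of a given pair -/
theorem TTz_iff (h : Dbl Om) (hP : Pt Om K K') {j : G} : j ∈ TTz Om (zz K) ↔
    ∃ x ∈ K, ∃ x' ∈ K', orderOf x = 4 ∧ orderOf x' = 4 ∧ x * x' = x' * x ∧ j = x * x' := by
  constructor
  · rintro ⟨L, L', x, x', hL, hz, hx, hx', h4, h4', hc, rfl⟩
    rcases h.eq_or hP hL.left hz with rfl | rfl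
    · have := h.pt_unique hL hP
      subst this
      exact ⟨x, hx, x', hx', h4, h4', hc, rfl⟩
    · have := h.pt_unique hL hP.symm
      subst this
      exact ⟨x', hx', x, hx, h4', h4, hc.symm, hc⟩
  · rintro ⟨x, hx, x', hx', h4, h4', hc, rfl⟩
    exact ⟨K, K', x, x', hP, rfl, hx, hx', h4, h4', hc, rfl⟩

theorem TTz_cj (h : Dbl Om) {j z : G} (hj : j ∈ TTz Om z) (g : G) : g * j * g⁻¹ ∈ TTz Om (g * z * g⁻¹) := by
  obtain ⟨K, K', x, x', hP, rfl, hx, hx', h4, h4', hc, rfl⟩ := hj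
  refine ⟨cj g K, cj g K', g * x * g⁻¹, g * x' * g⁻¹, h.pt_cj hP g, h.hyp.zz_cj hP.left g, conj_mem_cj hx,
    conj_mem_cj hx', conj_four_eq h4, conj_four_eq h4', ?_, by group⟩
  calc g * x * g⁻¹ * (g * x' * g⁻¹) = g * (x * x') * g⁻¹ := by group
    _ = g * (x' * x) * g⁻¹ := by rw [hc]
    _ = _ := by group

/-- an element of `TTz` in a frame -/
theorem TTz_frame (h : Dbl Om) (hP : Pt Om K K') {j : G} (hj : j ∈ TTz Om (zz K)) :
    ∃ S x x', Fz Om K K' S ∧ x ∈ K ⊓ S ∧ x' ∈ K' ⊓ S ∧ orderOf x = 4 ∧ orderOf x' = 4 ∧ j = x * x' := by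
  obtain ⟨x, hx, x', hx', h4, h4', hc, rfl⟩ := (h.TTz_iff hP).1 hj
  have hp : IsPGroup 2 (zpowers x ⊔ zpowers x' : Subgroup G) := by
    refine isPGroup_sup_of_comm (isPGroup_zpowers_of_four h4) (isPGroup_zpowers_of_four h4') ?_
    rintro a ⟨i, rfl⟩ b ⟨l, rfl⟩
    exact ((show Commute x x' from hc).zpow_zpow i l).eq
  obtain ⟨S, hS, f⟩ := h.exists_frame hP hp (sup_le
    (zpowers_le.2 (h.hyp.le_centralizer hP.left hx))
    (zpowers_le.2 (by rw [h.same _ _ hP]; exact h.hyp.le_centralizer hP.right hx')))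
  exact ⟨S, x, x', f, ⟨hx, hS (mem_sup_left (mem_zpowers x))⟩, ⟨hx', hS (mem_sup_right (mem_zpowers x'))⟩,
    h4, h4', rfl⟩

/-- elementary facts on `TTz` -/
theorem TTz_facts (h : Dbl Om) (hP : Pt Om K K') {j : G} (hj : j ∈ TTz Om (zz K)) :
    j * j = 1 ∧ j ≠ 1 ∧ j ≠ zz K ∧ j * zz K = zz K * j ∧ j ∈ K ⊔ K' ∧ zz K * j ∈ TTz Om (zz K) := by
  obtain ⟨S, x, x', f, hx, hx', h4, h4', rfl⟩ := h.TTz_frame hP hj
  have hc := f.comm h hx hx'
  have e1 := h.ne_four hP.left hx.1 h4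
  have e2 : x' * x' = zz K := by rw [h.same _ _ hP]; exact h.ne_four hP.right hx'.1 h4'
  have hzz := h.hyp.zz_mul hP.left
  have hxz := f.comm_z hx.2
  have hxz' := f.comm_z hx'.2
  have hne : ∀ y ∈ zpowers (zz K), x * x' ≠ y := by
    intro y hy h1
    have h2 : x' = x⁻¹ * y := by rw [← h1]; group
    have h3 : x' ∈ K := by
      rw [h2]
      exact K.mul_mem (K.inv_mem hx.1) ((zpowers_le.2 (h.hyp.zz_mem hP.left)) hy)
    have h5 := (f.symm h).inf_eq h hx' h3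
    rw [← h.same _ _ hP] at h5
    rcases h5 with h5 | h5
    · rw [h5, orderOf_one] at h4'
      omega
    · rw [h5, h.hyp.orderOf_zz hP.left] at h4'
      omega
  refine ⟨?_, hne 1 (one_mem _), hne _ (mem_zpowers _), ?_, mul_mem (mem_sup_left hx.1) (mem_sup_right hx'.1), ?_⟩
  · calc x * x' * (x * x') = x * (x' * x) * x' := by group
      _ = (x * x) * (x' * x') := by rw [← hc]; group
      _ = 1 := by rw [e1, e2, hzz]
  · rw [mul_assoc, hxz', ← mul_assoc, hxz, mul_assoc]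
  · refine (h.TTz_iff hP).2 ⟨zz K * x, K.mul_mem (h.hyp.zz_mem hP.left) hx.1, x', hx'.1, ?_, h4', ?_, ?_⟩
    · refine h.hyp.orderOf_of_sq hP.left ?_
      calc zz K * x * (zz K * x) = zz K * (x * zz K) * x := by group
        _ = (zz K * zz K) * (x * x) := by rw [hxz]; group
        _ = zz K := by rw [hzz, e1, one_mul]
    · rw [mul_assoc, hc, ← mul_assoc, ← hxz', mul_assoc]
    · rw [mul_assoc]

theorem TTz_ne (h : Dbl Om) {z j : G} (hj : j ∈ TTz Om z) : j ≠ z := by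
  obtain ⟨K, K', x, x', hP, rfl, -⟩ := id hj
  exact (h.TTz_facts hP hj).2.2.1

theorem TTz_sq (h : Dbl Om) {z j : G} (hj : j ∈ TTz Om z) : j * j = 1 := by
  obtain ⟨K, K', x, x', hP, rfl, -⟩ := id hj
  exact (h.TTz_facts hP hj).1

theorem TTz_mul (h : Dbl Om) {z j : G} (hj : j ∈ TTz Om z) : z * j ∈ TTz Om z := by
  obtain ⟨K, K', x, x', hP, rfl, -⟩ := id hj
  exact (h.TTz_facts hP hj).2.2.2.2.2

/-- an involution of `K ⊔ K'` different from `z` is in `TT` -/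
theorem TTz_of_mem (h : Dbl Om) (hP : Pt Om K K') {j : G} (hj : j ∈ K ⊔ K') (h2 : j * j = 1) (h1 : j ≠ 1)
    (hz : j ≠ zz K) : j ∈ TTz Om (zz K) := by
  have hjz : j ∈ centralizer {zz K} := by
    refine (sup_le (h.hyp.le_centralizer hP.left) ?_ : K ⊔ K' ≤ _) hj
    rw [h.same _ _ hP]
    exact h.hyp.le_centralizer hP.right
  obtain ⟨S, hS, f⟩ := h.exists_frame hP (isPGroup_zpowers_of_sq h2) (zpowers_le.2 hjz)
  obtain ⟨a, ha, b, hb, rfl⟩ := f.exists_mul h (hS (mem_zpowers j)) hj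
  have hc := f.comm h ha hb
  have e1 : a * a = (b * b)⁻¹ := by
    rw [eq_inv_iff_mul_eq_one]
    calc a * a * (b * b) = a * (a * b) * b := by group
      _ = a * (b * a) * b := by rw [hc]
      _ = a * b * (a * b) := by group
      _ = 1 := h2
  have e2 : a * a ∈ K' := by
    rw [e1]
    exact K'.inv_mem (K'.mul_mem hb.1 hb.1)
  have e3 := f.inf_eq h (mul_mem ha ha) e2
  rcases e3 with e3 | e3
  · exfalso
    have e4 : b * b = 1 := by rw [e3] at e1; exact inv_eq_one.1 e1.symm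
    have e5 : a = 1 ∨ a = zz K := by
      by_cases ha1 : a = 1
      · exact Or.inl ha1
      · exact Or.inr (h.hyp.eq_zz hP.left ha.1 e3 ha1)
    have e6 : b = 1 ∨ b = zz K := by
      by_cases hb1 : b = 1
      · exact Or.inl hb1
      · right
        rw [h.same _ _ hP]
        exact h.hyp.eq_zz hP.right hb.1 e4 hb1
    rcases e5 with e5 | e5 <;> rcases e6 with e6 | e6 <;> rw [e5, e6] at h1 hz
    · exact h1 (by simp)
    · exact hz (by simp)
    · exact hz (by simp)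
    · exact h1 (h.hyp.zz_mul hP.left)
  · have e4 : b * b = zz K' := by
      have e5 : b * b = (a * a)⁻¹ := by rw [e1, inv_inv]
      rw [e5, e3, h.hyp.zz_inv hP.left, h.same _ _ hP]
    exact (h.TTz_iff hP).2 ⟨a, ha.1, b, hb.1, h.hyp.orderOf_of_sq hP.left e3, h.hyp.orderOf_of_sq hP.right e4,
      hc, rfl⟩

/-- `TT(z)` is one class of `C(z)` -/
theorem TTz_conj (h : Dbl Om) (hP : Pt Om K K') {j j' : G} (hj : j ∈ TTz Om (zz K)) (hj' : j' ∈ TTz Om (zz K)) :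
    ∃ g, g * zz K = zz K * g ∧ cj g K = K ∧ g * j * g⁻¹ = j' := by
  obtain ⟨S, x, x', f, hx, hx', h4, h4', rfl⟩ := h.TTz_frame hP hj
  obtain ⟨T, y, y', t, hy, hy', k4, k4', rfl⟩ := h.TTz_frame hP hj'
  -- the same frame
  have key : ∀ {S : Subgroup G} (f : Fz Om K K' S) {x x' y y' : G}, x ∈ K ⊓ S → x' ∈ K' ⊓ S → y ∈ K ⊓ S →
      y' ∈ K' ⊓ S → orderOf x = 4 → orderOf x' = 4 → orderOf y = 4 → orderOf y' = 4 →
      ∃ g ∈ K ⊔ K', g * (x * x') * g⁻¹ = y * y' := by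
    intro S f x x' y y' hx hx' hy hy' h4 h4' k4 k4'
    obtain ⟨k, hk, hkc, hkx⟩ := f.conj_four h hx hy h4 k4
    obtain ⟨l, hl, hlc, hlx⟩ := (f.symm h).conj_four h hx' hy' h4' k4'
    refine ⟨l * k, mul_mem (mem_sup_right hl) (mem_sup_left hk), ?_⟩
    calc l * k * (x * x') * (l * k)⁻¹ = l * ((k * x * k⁻¹) * (k * x' * k⁻¹)) * l⁻¹ := by group
      _ = l * (y * x') * l⁻¹ := by
          have : k * x' * k⁻¹ = x' := by rw [hkc x' hx', mul_inv_cancel_right]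
          rw [hkx, this]
      _ = (l * y * l⁻¹) * (l * x' * l⁻¹) := by group
      _ = y * y' := by
          have : l * y * l⁻¹ = y := by rw [hlc y hy, mul_inv_cancel_right]
          rw [hlx, this]
  have hsup : ∀ g ∈ K ⊔ K', g * zz K = zz K * g ∧ cj g K = K := by
    intro g hg
    have h1 : g ∈ normalizer (K : Set G) :=
      (sup_le le_normalizer (h.le_normalizer_of_pt hP.symm) : K ⊔ K' ≤ normalizer (K : Set G)) hg
    exact ⟨h.hyp.comm_zz hP.left h1, mem_normalizer_iff_cj.1 h1⟩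
  -- `K ⊔ K'` acts transitively on the pairs of Sylow subgroups
  obtain ⟨N, hN⟩ : ∃ N : Subgroup G, N = normalizer (K : Set G) ⊓ normalizer (K' : Set G) := ⟨_, rfl⟩
  have hNz : N ≤ centralizer {zz K} := by rw [hN]; exact inf_le_left.trans (h.hyp.normalizer_le hP.left)
  have hX : ∀ {S : Subgroup G} (f : Fz Om K K' S), ∃ R, Syl R N ∧ K ⊓ S ≤ R ∧ K' ⊓ S ≤ R := by
    intro S f
    have h1 : K ⊓ S ⊔ K' ⊓ S ≤ N := by
      rw [hN]
      exact sup_le (le_inf (inf_le_left.trans le_normalizer) (inf_le_left.trans (h.le_normalizer_of_pt hP)))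
        (le_inf (inf_le_left.trans (h.le_normalizer_of_pt hP.symm)) (inf_le_left.trans le_normalizer))
    obtain ⟨R, hR, hle⟩ := OneBasic.exists_syl_ge (f.p.to_le (sup_le inf_le_right inf_le_right)) h1
    exact ⟨R, hR, le_sup_left.trans hle, le_sup_right.trans hle⟩
  obtain ⟨R, hR, hR1, hR2⟩ := hX f
  obtain ⟨R', hR', hR1', hR2'⟩ := hX t
  obtain ⟨m, hm, hmR⟩ := hR.exists_conj hR'
  have hmK : cj m K = K := by
    rw [← mem_normalizer_iff_cj]; rw [hN] at hm; exact hm.1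
  have hmK' : cj m K' = K' := by
    rw [← mem_normalizer_iff_cj]; rw [hN] at hm; exact hm.2
  have hmz : m * zz K = zz K * m := h.hyp.comm_zz hP.left (mem_normalizer_iff_cj.2 hmK)
  have e1 : K ⊓ R' = K ⊓ T := (syl_eq_of_le (t.sylK h) (hR'.2.1.to_le inf_le_right) inf_le_left
    (le_inf inf_le_left hR1')).symm
  have e2 : K' ⊓ R' = K' ⊓ T := (syl_eq_of_le (t.sylK' h) (hR'.2.1.to_le inf_le_right) inf_le_left
    (le_inf inf_le_left hR2')).symm
  have mx : m * x * m⁻¹ ∈ K ⊓ T := by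
    rw [← e1]
    refine ⟨?_, ?_⟩
    · have := conj_mem_cj (g := m) hx.1
      rwa [hmK] at this
    · rw [← hmR]; exact conj_mem_cj (hR1 hx)
  have mx' : m * x' * m⁻¹ ∈ K' ⊓ T := by
    rw [← e2]
    refine ⟨?_, ?_⟩
    · have := conj_mem_cj (g := m) hx'.1
      rwa [hmK'] at this
    · rw [← hmR]; exact conj_mem_cj (hR2 hx')
  obtain ⟨g, hg, hgx⟩ := key t mx mx' hy hy' (conj_four_eq h4) (conj_four_eq h4') k4 k4'
  obtain ⟨g1, g2⟩ := hsup g hg
  refine ⟨g * m, ?_, ?_, ?_⟩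
  · rw [mul_assoc, hmz, ← mul_assoc, g1, mul_assoc]
  · rw [cj_mul, hmK, g2]
  · rw [← hgx]; group

/-- the sets `TT(z)` are conjugate -/
theorem TTz_conj' (h : Dbl Om) (hK : K ∈ Om) (hL : L ∈ Om) {j j' : G} (hj : j ∈ TTz Om (zz K))
    (hj' : j' ∈ TTz Om (zz L)) : ∃ g, cj g K = L ∧ g * j * g⁻¹ = j' := by
  obtain ⟨g, hg⟩ := h.cls K hK L hL
  obtain ⟨L', hP⟩ := h.exists_pt hL
  have h1 := h.TTz_cj hj g
  rw [← h.hyp.zz_cj hK, hg] at h1
  obtain ⟨m, -, hm, hmj⟩ := h.TTz_conj hP h1 hj'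
  refine ⟨m * g, by rw [cj_mul, hg, hm], ?_⟩
  rw [← hmj]; group

/-- if one element of `TT` is a classical involution then all are -/
theorem TT_le (h : Dbl Om) (hK : K ∈ Om) {j : G} (hj : j ∈ TTz Om (zz K)) (hZ : ∃ L ∈ Om, zz L = j)
    {z j' : G} (hj' : j' ∈ TTz Om z) : ∃ L ∈ Om, zz L = j' := by
  obtain ⟨M, M', x, x', hP, rfl, -⟩ := id hj'
  obtain ⟨L, hL, rfl⟩ := hZ
  obtain ⟨g, hg, hgj⟩ := h.TTz_conj' hK hP.left hj hj'
  exact ⟨cj g L, h.hyp.conj L hL g, by rw [h.hyp.zz_cj hL, hgj]⟩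

/-- (A) implies `NP` -/
theorem np_of_A (h : Dbl Om) (hA : ∀ z, ∀ j ∈ TTz Om z, ∃ L ∈ Om, zz L = j) : NP Om := by
  intro z j hj L hL hp
  obtain ⟨J, hJ, rfl⟩ := hA z j hj
  exact h.eq_of_perp hL hJ (hp L hL rfl)

/-- (C) implies `NP` -/
theorem np_of_C (hC : ∀ z, ∀ j ∈ TTz Om z, ∀ L ∈ Om, ¬ Pp Om j (zz L)) : NP Om :=
  fun z j hj L hL hp => absurd hp (hC z j hj L hL)

end Dbl

end Cfsg.Agent.Cit.TwoP
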