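import Cfsg.Agent.Cit.OneType
import Cfsg.Agent.Cit.TwoP.Frame

/-!
# Involutions acting on generalised quaternion groups
-/

set_option autoImplicit false
set_option linter.style.haveILetI false
set_option linter.unusedSectionVars false
set_option linter.unusedVariables false

namespace Cfsg.Agent.Cit.TwoP

open Subgroup Cfsg OneBasic

variable {G : Type*} [Group G] {Q : Subgroup G} {c v s : G} {n : ℕ}

/-- an element commuting with the generators centralises `Q` -/
theorem cent_of_gen (h : GQ Q c v s n) {e : G} (h1 : e * c = c * e) (h2 : e * v = v * e) :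
    ∀ x ∈ Q, e * x = x * e := by
  have h3 : Q ≤ centralizer {e} := h.le_of_mem (mem_centralizer_singleton_iff.2 h1.symm) h.v_mem h.v_not_mem
    (mem_centralizer_singleton_iff.2 h2.symm)
  intro x hx
  exact (mem_centralizer_singleton_iff.1 (h3 hx)).symm

theorem w_conj_v (h : GQ Q c v s n) : c ^ 2 ^ n * v * (c ^ 2 ^ n)⁻¹ = v * s := by
  have h1 := h.conj_zpow_v (2 ^ n)
  have h2 : c ^ ((2 : ℤ) ^ n) = c ^ 2 ^ n := by
    rw [← zpow_natCast]; norm_cast
  rw [h2] at h1
  rw [h1]
  congr 1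
  have h3 : c ^ (-2 * (2 : ℤ) ^ n) = (c ^ ((2 : ℤ) ^ (n + 1)))⁻¹ := by
    rw [← zpow_neg]; congr 1; ring
  rw [h3, h.z_zpow, h.z_inv]

/-- `ι` : if `e` centralises `c` and maps `v` to `v s` then `e w` centralises `Q` -/
theorem cent_mul_w (h : GQ Q c v s n) {e : G} (h1 : e * c * e⁻¹ = c) (h2 : e * v * e⁻¹ = v * s) :
    ∀ x ∈ Q, e * c ^ 2 ^ n * x = x * (e * c ^ 2 ^ n) := by
  have hec : e * c = c * e := by
    calc e * c = (e * c * e⁻¹) * e := by group
      _ = c * e := by rw [h1]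
  have hes : e * s * e⁻¹ = s := by
    rw [← h.z_eq, ← _root_.conj_pow, h1]
  apply cent_of_gen h
  · calc e * c ^ 2 ^ n * c = e * c * c ^ 2 ^ n := by rw [mul_assoc, ← pow_succ, mul_assoc, ← pow_succ']
      _ = c * (e * c ^ 2 ^ n) := by rw [hec, mul_assoc]
  · have h3 := w_conj_v h
    calc e * c ^ 2 ^ n * v = e * (c ^ 2 ^ n * v * (c ^ 2 ^ n)⁻¹) * c ^ 2 ^ n := by group
      _ = (e * v * e⁻¹) * (e * s * e⁻¹) * e * c ^ 2 ^ n := by rw [h3]; group
      _ = v * (s * s) * e * c ^ 2 ^ n := by rw [h2, hes]; group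
      _ = v * (e * c ^ 2 ^ n) := by rw [h.z_mul, mul_one, mul_assoc]

/-- the involutions commuting with an involution `t` acting on `Q` with `C_Q(t) = ⟨s⟩`: they act as `1`, `t`,
`ι` or `t ι` -/
theorem four_types (h : GQ Q c v s n) {t e : G} (ht : t ∈ normalizer (Q : Set G)) (he : e ∈ normalizer (Q : Set G))
    (htt : t * t = 1) (hee : e * e = 1) (hte : e * t = t * e) (htc : t * c * t⁻¹ ∈ zpowers c)
    (hec : e * c * e⁻¹ ∈ zpowers c) (hD : ∀ q ∈ Q, q * t = t * q → q = 1 ∨ q = s) :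
    (∀ x ∈ Q, e * x = x * e) ∨ (∀ x ∈ Q, e * t * x = x * (e * t)) ∨
    (∀ x ∈ Q, e * c ^ 2 ^ n * x = x * (e * c ^ 2 ^ n)) ∨
    (∀ x ∈ Q, e * t * c ^ 2 ^ n * x = x * (e * t * c ^ 2 ^ n)) := by
  obtain ⟨htc', j, hj, htv⟩ := h.out_act ht htc htt hD
  have htz : t * c * t⁻¹ = c ^ (-1 : ℤ) := by rw [htc', zpow_neg_one]
  -- elements `e` with `e c e⁻¹ = c ^ l`, `l ≡ 1 mod 4`
  have key : ∀ {e : G}, e ∈ normalizer (Q : Set G) → e * e = 1 → e * t = t * e → ∀ l : ℤ,
      e * c * e⁻¹ = c ^ l → (4 : ℤ) ∣ l - 1 →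
      (∀ x ∈ Q, e * x = x * e) ∨ (∀ x ∈ Q, e * c ^ 2 ^ n * x = x * (e * c ^ 2 ^ n)) := by
    intro e he hee hte l hl hl4
    have hei : e⁻¹ = e := inv_eq_of_mul_eq_one_right hee
    obtain ⟨i, hi⟩ := h.exists_act he (by
      rw [hei]
      have : e * c * e = e * c * e⁻¹ := by rw [hei]
      rw [this, hl]
      exact zpow_mem (mem_zpowers c) l)
    -- `i (1 + l) ≡ 0`
    have h1 : (2 : ℤ) ^ (n + 2) ∣ i * (1 + l) := by
      rw [← h.zpow_eq_one_iff]
      have h2 : e * (e * v * e⁻¹) * e⁻¹ = v := by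
        calc e * (e * v * e⁻¹) * e⁻¹ = (e * e) * v * (e * e)⁻¹ := by group
          _ = v := by rw [hee]; group
      have h3 : e * (v * c ^ i) * e⁻¹ = v * c ^ (i * (1 + l)) := by
        calc e * (v * c ^ i) * e⁻¹ = (e * v * e⁻¹) * (e * c ^ i * e⁻¹) := by group
          _ = v * c ^ i * c ^ (l * i) := by rw [hi, conj_zpow_pow hl]
          _ = v * c ^ (i * (1 + l)) := by rw [mul_assoc, ← zpow_add]; congr 2; ring
      rw [hi, h3] at h2
      exact mul_eq_left.1 h2
    -- `i ≡ 0 mod 2 ^ (n + 1)`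
    obtain ⟨b, hb⟩ := hl4
    have h2 : (2 : ℤ) ^ (n + 1) ∣ i := by
      have h3 : i * (1 + l) = 2 * (i * (2 * b + 1)) := by
        have : l = 4 * b + 1 := by linarith
        rw [this]; ring
      rw [h3, pow_succ'] at h1
      have h4 : (2 : ℤ) ^ (n + 1) ∣ i * (2 * b + 1) := (mul_dvd_mul_iff_left (by norm_num)).1 h1
      have h5 : IsCoprime ((2 : ℤ) ^ (n + 1)) (2 * b + 1) := by
        apply IsCoprime.pow_left
        exact ⟨-b, 1, by ring⟩
      exact h5.dvd_of_dvd_mul_right h4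
    -- `i + l j ≡ j - i`
    have h3 : (2 : ℤ) ^ (n + 2) ∣ (i + l * j) - (j - i) := by
      rw [← h.zpow_eq_iff]
      have e1 : e * (t * v * t⁻¹) * e⁻¹ = t * (e * v * e⁻¹) * t⁻¹ := by
        calc e * (t * v * t⁻¹) * e⁻¹ = (e * t) * v * (e * t)⁻¹ := by group
          _ = (t * e) * v * (t * e)⁻¹ := by rw [hte]
          _ = _ := by group
      rw [htv, hi] at e1
      have e2 : e * (v * c ^ j) * e⁻¹ = v * c ^ (i + l * j) := by
        calc e * (v * c ^ j) * e⁻¹ = (e * v * e⁻¹) * (e * c ^ j * e⁻¹) := by group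
          _ = v * c ^ i * c ^ (l * j) := by rw [hi, conj_zpow_pow hl]
          _ = v * c ^ (i + l * j) := by rw [mul_assoc, ← zpow_add]
      have e3 : t * (v * c ^ i) * t⁻¹ = v * c ^ (j - i) := by
        calc t * (v * c ^ i) * t⁻¹ = (t * v * t⁻¹) * (t * c ^ i * t⁻¹) := by group
          _ = v * c ^ j * c ^ (-1 * i) := by rw [htv, conj_zpow_pow htz]
          _ = v * c ^ (j - i) := by rw [mul_assoc, ← zpow_add]; congr 2; ring
      rw [e2, e3] at e1
      exact mul_left_cancel e1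
    have h4 : (2 : ℤ) ^ (n + 2) ∣ l - 1 := by
      have h5 : (2 : ℤ) ^ (n + 2) ∣ 2 * i := by
        rw [pow_succ']; exact mul_dvd_mul_left 2 h2
      have h6 : (2 : ℤ) ^ (n + 2) ∣ (l - 1) * j := by
        have : (l - 1) * j = ((i + l * j) - (j - i)) - 2 * i := by ring
        rw [this]
        exact dvd_sub h3 h5
      obtain ⟨a, ha⟩ := hj
      have h7 : IsCoprime ((2 : ℤ) ^ (n + 2)) j := by
        apply IsCoprime.pow_left
        exact ⟨-a, 1, by rw [ha]; ring⟩
      exact h7.dvd_of_dvd_mul_right h6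
    have hc1 : e * c * e⁻¹ = c := by
      rw [hl]
      conv_rhs => rw [← zpow_one c]
      rw [h.zpow_eq_iff]; exact h4
    have hc2 : e * c = c * e := by
      calc e * c = (e * c * e⁻¹) * e := by group
        _ = c * e := by rw [hc1]
    have h5 : c ^ (2 * i) = 1 := by
      rw [h.zpow_eq_one_iff, pow_succ']
      exact mul_dvd_mul_left 2 h2
    rcases h.zpow_sq h5 with h6 | h6
    · left
      refine cent_of_gen h hc2 ?_
      rw [h6, mul_one] at hi
      calc e * v = (e * v * e⁻¹) * e := by group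
        _ = v * e := by rw [hi]
    · right
      rw [h6] at hi
      exact cent_mul_w h hc1 hi
  obtain ⟨l, hl⟩ := hec
  have hl' : e * c * e⁻¹ = c ^ l := hl.symm
  have hei : e⁻¹ = e := inv_eq_of_mul_eq_one_right hee
  have hll : (2 : ℤ) ^ (n + 2) ∣ l ^ 2 - 1 := by
    rw [← h.zpow_eq_iff]
    have h1 : e * (e * c ^ (1 : ℤ) * e⁻¹) * e⁻¹ = c := by
      calc e * (e * c ^ (1 : ℤ) * e⁻¹) * e⁻¹ = (e * e) * c * (e * e)⁻¹ := by group
        _ = c := by rw [hee]; group
    rw [conj_zpow_pow hl', conj_zpow_pow hl'] at h1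
    rw [zpow_one, ← h1]
    congr 1
    ring
  have hlo := odd_of_sq_dvd hll
  have h4 : (4 : ℤ) ∣ l - 1 ∨ (4 : ℤ) ∣ -l - 1 := by
    obtain ⟨a, ha⟩ := hlo
    rcases Int.even_or_odd a with ⟨b, hb⟩ | ⟨b, hb⟩
    · left; exact ⟨b, by rw [ha, hb]; ring⟩
    · right; exact ⟨-b - 1, by rw [ha, hb]; ring⟩
  rcases h4 with h4 | h4
  · rcases key he hee hte l hl' h4 with h5 | h5
    · exact Or.inl h5
    · exact Or.inr (Or.inr (Or.inl h5))
  · have h6 : e * t * (e * t) = 1 := by
      calc e * t * (e * t) = (e * t) * (t * e) := by rw [hte]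
        _ = e * (t * t) * e := by group
        _ = 1 := by rw [htt, mul_one, hee]
    have h7 : e * t * t = t * (e * t) := by rw [hte, mul_assoc, hte]
    have h8 : e * t * c * (e * t)⁻¹ = c ^ (-l) := by
      calc e * t * c * (e * t)⁻¹ = e * (t * c * t⁻¹) * e⁻¹ := by group
        _ = e * c ^ (-1 : ℤ) * e⁻¹ := by rw [htz]
        _ = c ^ (-l) := by rw [conj_zpow_pow hl']; congr 1; ring
    rcases key (mul_mem he ht) h6 h7 (-l) h8 h4 with h5 | h5
    · exact Or.inr (Or.inl h5)
    · exact Or.inr (Or.inr (Or.inr h5))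

/-- three involutions with product `1`, none of them acting as `t`: one of them acts trivially -/
theorem one_of_three (h : GQ Q c v s n) {t e f : G} (ht : t ∈ normalizer (Q : Set G)) (he : e ∈ normalizer (Q : Set G))
    (hf : f ∈ normalizer (Q : Set G)) (htt : t * t = 1) (hee : e * e = 1) (hff : f * f = 1) (hte : e * t = t * e)
    (htf : f * t = t * f) (htc : t * c * t⁻¹ ∈ zpowers c)
    (hec : e * c * e⁻¹ ∈ zpowers c) (hfc : f * c * f⁻¹ ∈ zpowers c) (hD : ∀ q ∈ Q, q * t = t * q → q = 1 ∨ q = s)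
    (h1 : ¬ ∀ x ∈ Q, e * t * x = x * (e * t)) (h2 : ¬ ∀ x ∈ Q, f * t * x = x * (f * t))
    (h3 : ¬ ∀ x ∈ Q, e * f * t * x = x * (e * f * t)) :
    (∀ x ∈ Q, e * x = x * e) ∨ (∀ x ∈ Q, f * x = x * f) ∨ (∀ x ∈ Q, e * f * x = x * (e * f)) := by
  obtain ⟨w, hw⟩ : ∃ w, w = c ^ 2 ^ n := ⟨_, rfl⟩
  have hwQ : w ∈ Q := by rw [hw]; exact Q.pow_mem h.c_mem _
  have hws : w * w = s := by rw [hw]; exact h.w_sq
  have hsc : ∀ x ∈ Q, s * x = x * s := fun x hx => (h.z_comm hx).symm
  -- products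
  have prod : ∀ {a b : G}, (∀ x ∈ Q, a * w * x = x * (a * w)) → (∀ x ∈ Q, b * w * x = x * (b * w)) →
      ∀ x ∈ Q, a * b * x = x * (a * b) := by
    intro a b ha hb x hx
    have hbw : b * w = w * b := by
      have := hb w hwQ
      rw [← mul_assoc] at this
      exact mul_right_cancel this
    have h5 : a * b * s * x = x * (a * b * s) := by
      have e1 : a * b * s = (a * w) * (b * w) := by
        calc a * b * s = a * (b * w) * w := by rw [← hws]; group
          _ = a * (w * b) * w := by rw [hbw]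
          _ = _ := by group
      rw [e1]
      calc a * w * (b * w) * x = a * w * (b * w * x) := by group
        _ = (a * w * x) * (b * w) := by rw [hb x hx]; group
        _ = x * (a * w * (b * w)) := by rw [ha x hx]; group
    have h6 : a * b * x * s = x * (a * b) * s := by
      calc a * b * x * s = a * b * (x * s) := by group
        _ = a * b * (s * x) := by rw [hsc x hx]
        _ = x * (a * b * s) := by rw [← h5]; group
        _ = _ := by group
    exact mul_right_cancel h6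
  rcases four_types h ht he htt hee hte htc hec hD with h4 | h4 | h4 | h4
  · exact Or.inl h4
  · exact absurd h4 h1
  · rcases four_types h ht hf htt hff htf htc hfc hD with h5 | h5 | h5 | h5
    · exact Or.inr (Or.inl h5)
    · exact absurd h5 h2
    · exact Or.inr (Or.inr (prod (by rw [hw]; exact h4) (by rw [hw]; exact h5)))
    · exfalso
      apply h3
      have := prod (a := e) (b := f * t) (by rw [hw]; exact h4) (by rw [hw]; exact h5)
      simpa [mul_assoc] using this
  · rcases four_types h ht hf htt hff htf htc hfc hD with h5 | h5 | h5 | h5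
    · exact Or.inr (Or.inl h5)
    · exact absurd h5 h2
    · exfalso
      apply h3
      have := prod (a := e * t) (b := f) (by rw [hw]; exact h4) (by rw [hw]; exact h5)
      have h6 : e * t * f = e * f * t := by rw [mul_assoc, ← htf, mul_assoc]
      rwa [h6] at this
    · right; right
      have := prod (a := e * t) (b := f * t) (by rw [hw]; exact h4) (by rw [hw]; exact h5)
      have h6 : e * t * (f * t) = e * f := by
        calc e * t * (f * t) = e * t * (t * f) := by rw [htf]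
          _ = e * (t * t) * f := by group
          _ = e * f := by rw [htt, mul_one]
      rwa [h6] at this

end Cfsg.Agent.Cit.TwoP
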