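import Cfsg.Agent.Cit.TwoP.Act

/-!
# Two generalised quaternion groups whose involutions act on each other
-/

set_option autoImplicit false
set_option linter.style.haveILetI false
set_option linter.unusedSectionVars false
set_option linter.unusedVariables false

namespace Cfsg.Agent.Cit.TwoP

open Subgroup Cfsg OneBasic

variable {G : Type*} [Group G]

/-- `T` a 2-group normalising `Q`, `R` and containing `C_Q(s)`, `C_R(z)` -/
structure Mut (T Q R : Subgroup G) (z s : G) : Prop where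
  tp : IsPGroup 2 T
  tQ : T ≤ normalizer (Q : Set G)
  tR : T ≤ normalizer (R : Set G)
  zz : z * z = 1
  ss : s * s = 1
  memQ : ∀ u ∈ Q, u * s = s * u → u ∈ T
  memR : ∀ u ∈ R, u * z = z * u → u ∈ T
  disj : ∀ u ∈ Q, u ∈ R → u = 1

namespace Mut

variable {T Q R : Subgroup G} {z s x y : G} {n : ℕ}

theorem symm (m : Mut T Q R z s) : Mut T R Q s z :=
  ⟨m.tp, m.tR, m.tQ, m.ss, m.zz, m.memR, m.memQ, fun u h1 h2 => m.disj u h2 h1⟩

/-- `[C_Q(s), C_R(z)] = 1` -/
theorem commute (m : Mut T Q R z s) {u v : G} (hu : u ∈ Q) (hus : u * s = s * u) (hv : v ∈ R)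
    (hvz : v * z = z * v) : u * v = v * u := by
  have huT := m.memQ u hu hus
  have hvT := m.memR v hv hvz
  have h1 : u * v * u⁻¹ * v⁻¹ ∈ R :=
    R.mul_mem ((mem_normalizer_iff.1 (m.tR huT) v).1 hv) (R.inv_mem hv)
  have h2 : u * v * u⁻¹ * v⁻¹ ∈ Q := by
    have h3 := Q.mul_mem hu ((mem_normalizer_iff.1 (m.tQ hvT) u⁻¹).1 (Q.inv_mem hu))
    simpa [mul_assoc] using h3
  have h3 := m.disj _ h2 h1
  rw [mul_inv_eq_one, mul_inv_eq_iff_eq_mul] at h3
  exact h3

/-- if `C_Q(s)` contains an element of order four then `z` centralises the generator `x` of `R` -/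
theorem key (m : Mut T Q R z s) (hR : GQ R x y s n) (hx : ∀ w ∈ T, w * x * w⁻¹ ∈ zpowers x) {u : G} (hu : u ∈ Q)
    (hus : u * s = s * u) (hu2 : u * u = z) : z * x = x * z := by
  have huT : u ∈ T := m.memQ u hu hus
  obtain ⟨k, hk⟩ : ∃ k : ℤ, u * x * u⁻¹ = x ^ k := by
    obtain ⟨k, hk⟩ := hx u huT
    exact ⟨k, hk.symm⟩
  have h1 : ∀ i : ℤ, z * x ^ i * z⁻¹ = x ^ (k ^ 2 * i) := by
    intro i
    have h2 : z * x ^ i * z⁻¹ = u * (u * x ^ i * u⁻¹) * u⁻¹ := by rw [← hu2]; group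
    rw [h2, conj_zpow_pow hk, conj_zpow_pow hk]
    congr 1
    ring
  have h4 : (2 : ℤ) ^ (n + 2) ∣ k ^ 4 - 1 := by
    rw [← hR.zpow_eq_one_iff, zpow_sub, zpow_one, mul_inv_eq_one]
    have h3 : z * (z * x ^ (1 : ℤ) * z⁻¹) * z⁻¹ = x := by
      have h5 : z * (z * x ^ (1 : ℤ) * z⁻¹) * z⁻¹ = (z * z) * x * (z * z)⁻¹ := by group
      rw [h5, m.zz]; group
    rw [h1, h1] at h3
    conv_rhs => rw [← h3]
    congr 1
    ring
  have h5 := arith_one n k h4
  have h6 : z * x ^ (2 : ℤ) * z⁻¹ = x ^ (2 : ℤ) := by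
    rw [h1]
    have h7 : (2 : ℤ) ^ (n + 2) ∣ k ^ 2 * 2 - 2 := by
      have : k ^ 2 * 2 - 2 = (k ^ 2 - 1) * 2 := by ring
      rw [this, pow_succ]
      exact mul_dvd_mul h5 dvd_rfl
    rw [← hR.zpow_eq_one_iff, zpow_sub, mul_inv_eq_one] at h7
    exact h7
  have h7 : x ^ (2 : ℤ) * z = z * x ^ (2 : ℤ) := by
    rw [mul_inv_eq_iff_eq_mul] at h6
    exact h6.symm
  have h8 := m.commute hu hus (R.zpow_mem hR.c_mem 2) h7
  have h9 : u * x ^ (2 : ℤ) * u⁻¹ = x ^ (2 : ℤ) := by rw [h8, mul_inv_cancel_right]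
  rw [conj_zpow_pow hk] at h9
  have h10 : (2 : ℤ) ^ (n + 1) ∣ k - 1 := by
    have h11 : (2 : ℤ) ^ (n + 2) ∣ k * 2 - 2 := by
      rw [← hR.zpow_eq_one_iff, zpow_sub, mul_inv_eq_one]
      exact h9
    have : k * 2 - 2 = 2 * (k - 1) := by ring
    rw [this, pow_succ'] at h11
    exact (mul_dvd_mul_iff_left (by norm_num)).1 h11
  have h11 := arith_two n k h10
  have h12 : z * x * z⁻¹ = x := by
    have h13 := h1 1
    rw [zpow_one] at h13
    rw [h13]
    have h14 : x ^ (k ^ 2 * 1 - 1) = 1 := by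
      rw [hR.zpow_eq_one_iff, mul_one]; exact h11
    rw [zpow_sub, zpow_one, mul_inv_eq_one] at h14
    exact h14
  rwa [mul_inv_eq_iff_eq_mul] at h12

/-- an element `a` with `a x = x a` and `a²` acting trivially on `y` -/
theorem _root_.Cfsg.Agent.Cit.GQ.conj_y_of_sq' (h : GQ R x y s n) {a : G} (ha : a ∈ normalizer (R : Set G))
    (hx : a * x = x * a) (hy : (a * a) * y = y * (a * a)) : a * y * a⁻¹ = y ∨ a * y * a⁻¹ = y * s := by
  obtain ⟨j, hj⟩ := h.exists_act ha (by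
    have : a⁻¹ * x * a = x := by rw [mul_assoc, ← hx]; group
    rw [this]; exact mem_zpowers x)
  have h1 : a * x ^ j * a⁻¹ = x ^ j := by
    rw [((show Commute a x from hx).zpow_right j).eq, mul_inv_cancel_right]
  have h2 : y = y * x ^ (2 * j) := by
    calc y = (a * a) * y * (a * a)⁻¹ := by rw [hy, mul_inv_cancel_right]
      _ = a * (a * y * a⁻¹) * a⁻¹ := by group
      _ = a * (y * x ^ j) * a⁻¹ := by rw [hj]
      _ = (a * y * a⁻¹) * (a * x ^ j * a⁻¹) := by group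
      _ = y * x ^ (2 * j) := by rw [hj, h1, mul_assoc, ← zpow_add, two_mul]
  have h3 : x ^ (2 * j) = 1 := by
    have := h2.symm
    simpa using this
  rcases h.zpow_sq h3 with h4 | h4
  · left; rw [hj, h4, mul_one]
  · right; rw [hj, h4]

/-- `z` centralises `x` but not `R`: `z` maps `y` to `y s` -/
theorem z_y (h : GQ R x y s n) (hz2 : z * z = 1) (hzR : z ∈ normalizer (R : Set G)) (hzx : z * x = x * z)
    (hn : ¬ ∀ q ∈ R, z * q = q * z) : z * y * z⁻¹ = y * s := by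
  rcases h.conj_y_of_sq' hzR hzx (by rw [hz2, one_mul, mul_one]) with h1 | h1
  · exfalso
    apply hn
    apply cent_of_gen h hzx
    rwa [mul_inv_eq_iff_eq_mul] at h1
  · exact h1

/-- the action of `u ∈ C_Q(s)`, `u² = z`, on `R` -/
theorem u_y [Finite G] (m : Mut T Q R z s) (h : GQ R x y s n) (hzR : z ∈ normalizer (R : Set G)) (hzx : z * x = x * z)
    (hn : ¬ ∀ q ∈ R, z * q = q * z) {u : G} (hu : u ∈ Q) (hus : u * s = s * u) (hu2 : u * u = z) :
    u * x = x * u ∧ (u * y * u⁻¹ = y * x ^ 2 ^ n ∨ u * y * u⁻¹ = y * (x ^ 2 ^ n * s)) := by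
  have hux := m.commute hu hus h.c_mem hzx.symm
  have huT := m.memQ u hu hus
  refine ⟨hux, ?_⟩
  obtain ⟨j, hj⟩ := h.exists_act (m.tR huT) (by
    have : u⁻¹ * x * u = x := by rw [mul_assoc, ← hux]; group
    rw [this]; exact mem_zpowers x)
  have h1 : u * x ^ j * u⁻¹ = x ^ j := by
    rw [((show Commute u x from hux).zpow_right j).eq, mul_inv_cancel_right]
  have h2 : y * s = y * (x ^ j * x ^ j) := by
    calc y * s = z * y * z⁻¹ := (z_y h m.zz hzR hzx hn).symm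
      _ = u * (u * y * u⁻¹) * u⁻¹ := by rw [← hu2]; group
      _ = u * (y * x ^ j) * u⁻¹ := by rw [hj]
      _ = (u * y * u⁻¹) * (u * x ^ j * u⁻¹) := by group
      _ = y * (x ^ j * x ^ j) := by rw [hj, h1, mul_assoc]
  have h3 := (mul_left_cancel h2).symm
  rcases h.eq_w_of_sq (zpow_mem (mem_zpowers x) j) h3 with h4 | h4
  · left; rw [hj, h4]
  · right; rw [hj, h4]

/-- two elements `u`, `u'` as in `u_y`: `u u'` or `u u' z` centralises `R` -/
theorem pair [Finite G] {Q' : Subgroup G} (m : Mut T Q R z s) (m' : Mut T Q' R z s) (h : GQ R x y s n)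
    (hzR : z ∈ normalizer (R : Set G)) (hzx : z * x = x * z)
    (hn : ¬ ∀ q ∈ R, z * q = q * z) {u u' : G} (hu : u ∈ Q) (hus : u * s = s * u) (hu2 : u * u = z)
    (hu' : u' ∈ Q') (hus' : u' * s = s * u') (hu2' : u' * u' = z) :
    (∀ q ∈ R, u * u' * q = q * (u * u')) ∨ (∀ q ∈ R, u * u' * z * q = q * (u * u' * z)) := by
  obtain ⟨hx1, hy1⟩ := m.u_y h hzR hzx hn hu hus hu2
  obtain ⟨hx2, hy2⟩ := m'.u_y h hzR hzx hn hu' hus' hu2'
  have hzy := z_y h m.zz hzR hzx hn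
  have hxs : x * s = s * x := h.commute_c_z
  have hw : x ^ 2 ^ n * x ^ 2 ^ n = s := h.w_sq
  have hus1 : u * s * u⁻¹ = s := by rw [hus, mul_inv_cancel_right]
  have hwu : u * x ^ 2 ^ n * u⁻¹ = x ^ 2 ^ n := by
    rw [((show Commute u x from hx1).pow_right _).eq, mul_inv_cancel_right]
  have hws : x ^ 2 ^ n * s = s * x ^ 2 ^ n := ((show Commute x s from hxs).pow_left _).eq
  have hss := h.z_mul
  have hcx : u * u' * x = x * (u * u') := by
    rw [mul_assoc, hx2, ← mul_assoc, hx1, mul_assoc]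
  have hcy : u * u' * y * (u * u')⁻¹ = y ∨ u * u' * y * (u * u')⁻¹ = y * s := by
    have e : u * u' * y * (u * u')⁻¹ = u * (u' * y * u'⁻¹) * u⁻¹ := by group
    rw [e]
    rcases hy2 with hy2 | hy2 <;> rcases hy1 with hy1 | hy1 <;> rw [hy2]
    · right
      calc u * (y * x ^ 2 ^ n) * u⁻¹ = (u * y * u⁻¹) * (u * x ^ 2 ^ n * u⁻¹) := by group
        _ = y * (x ^ 2 ^ n * x ^ 2 ^ n) := by rw [hy1, hwu]; group
        _ = y * s := by rw [hw]
    · left
      calc u * (y * x ^ 2 ^ n) * u⁻¹ = (u * y * u⁻¹) * (u * x ^ 2 ^ n * u⁻¹) := by group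
        _ = y * (s * (x ^ 2 ^ n * x ^ 2 ^ n)) := by rw [hy1, hwu, hws]; group
        _ = y := by rw [hw, hss, mul_one]
    · left
      calc u * (y * (x ^ 2 ^ n * s)) * u⁻¹ = (u * y * u⁻¹) * (u * x ^ 2 ^ n * u⁻¹) * (u * s * u⁻¹) := by group
        _ = y * (x ^ 2 ^ n * x ^ 2 ^ n) * s := by rw [hy1, hwu, hus1]; group
        _ = y := by rw [hw, mul_assoc, hss, mul_one]
    · right
      calc u * (y * (x ^ 2 ^ n * s)) * u⁻¹ = (u * y * u⁻¹) * (u * x ^ 2 ^ n * u⁻¹) * (u * s * u⁻¹) := by group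
        _ = y * (x ^ 2 ^ n * (s * x ^ 2 ^ n) * s) := by rw [hy1, hwu, hus1]; simp only [mul_assoc]
        _ = y * (x ^ 2 ^ n * (x ^ 2 ^ n * s) * s) := by rw [← hws]
        _ = y * ((x ^ 2 ^ n * x ^ 2 ^ n) * (s * s)) := by simp only [mul_assoc]
        _ = y * s := by rw [hw, hss, mul_one]
  rcases hcy with hcy | hcy
  · left
    apply cent_of_gen h hcx
    rwa [mul_inv_eq_iff_eq_mul] at hcy
  · right
    apply cent_of_gen h
    · rw [mul_assoc _ z, hzx, ← mul_assoc _ x, hcx, mul_assoc]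
    · have e1 : z * y = y * s * z := by
        rw [← hzy]; group
      have e2 : u * u' * y = y * s * (u * u') := by
        rw [← hcy]; group
      have e3 : u * u' * s = s * (u * u') := by
        rw [mul_assoc, hus', ← mul_assoc, hus, mul_assoc]
      calc u * u' * z * y = u * u' * (z * y) := by group
        _ = u * u' * y * s * z := by rw [e1]; group
        _ = y * s * (u * u' * s) * z := by rw [e2]; group
        _ = y * (s * s) * (u * u') * z := by rw [e3]; group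
        _ = y * (u * u' * z) := by rw [hss]; group

end Mut

end Cfsg.Agent.Cit.TwoP
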