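import Cfsg.Agent.Cit.TwoP.WW
import Cfsg.Agent.Cit.Trivial
import Cfsg.Agent.Cit.SubCent
import Cfsg.Agent.Cit.LemmaB
import Cfsg.Agent.Cit.OneF.Solv

/-!
# `|Om(S)| = 2`, equal involutions: `C_G(B)` is not solvable

`not_solvable`: `B` a 2-subgroup centralising Sylow 2-subgroups of `K` and `K'`, `s` swaps `K` and `K'` and is
conjugate to `z = zz K` in `C_G(B)`: then `C_G(B)` is not solvable.
-/

set_option autoImplicit false
set_option linter.style.haveILetI false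
set_option linter.unusedSectionVars false

namespace Cfsg.Agent.Cit.TwoP

open Subgroup Cfsg Cit OneBasic TwoFK

variable {G : Type*} [Group G]

/-- the image in `N(N)/N` -/
noncomputable def mk (N : Subgroup G) : normalizer (N : Set G) →* normalizer (N : Set G) ⧸ N.subgroupOf (normalizer (N : Set G)) :=
  QuotientGroup.mk' _

theorem mk_eq_one {N : Subgroup G} {a : normalizer (N : Set G)} : mk N a = 1 ↔ (a : G) ∈ N := by
  rw [mk, QuotientGroup.mk'_apply, QuotientGroup.eq_one_iff, mem_subgroupOf]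

theorem commute_mk {N : Subgroup G} {a b : G} (ha : a ∈ normalizer (N : Set G))
    (hb : b ∈ normalizer (N : Set G)) : Commute (mk N ⟨a, ha⟩) (mk N ⟨b, hb⟩) ↔ a * b * a⁻¹ * b⁻¹ ∈ N := by
  rw [commute_iff_eq, ← mul_inv_eq_iff_eq_mul, ← mul_inv_eq_one, ← map_mul, ← map_inv, ← map_mul, ← map_inv,
    ← map_mul, mk_eq_one]
  rfl

/-- powers of a product of elements commuting modulo `N` -/
theorem exists_pow_mul {N : Subgroup G} {a b : G} (ha : a ∈ normalizer (N : Set G))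
    (hb : b ∈ normalizer (N : Set G)) (hab : a * b * a⁻¹ * b⁻¹ ∈ N) (n : ℕ) :
    ∃ c ∈ N, (a * b) ^ n = a ^ n * b ^ n * c := by
  have h1 := (commute_mk ha hb).2 hab
  have h2 := h1.mul_pow n
  have h3 : mk N ((⟨a, ha⟩ ^ n * ⟨b, hb⟩ ^ n)⁻¹ * (⟨a, ha⟩ * ⟨b, hb⟩) ^ n) = 1 := by
    rw [map_mul, map_inv, map_mul, map_pow, map_pow, map_pow, map_mul, h2, inv_mul_cancel]
  rw [mk_eq_one] at h3
  refine ⟨(a ^ n * b ^ n)⁻¹ * (a * b) ^ n, h3, by group⟩

/-- an odd order subgroup of `K` normalised by a subgroup covering `K/O(K)` -/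
theorem inf_le_OO [Finite G] {K O X : Subgroup G} (hO : ¬ 2 ∣ Nat.card O) (hXO : X ≤ normalizer (O : Set G))
    (hcov : ∀ k ∈ K, ∃ o ∈ OO K, ∃ x ∈ K ⊓ X, k = o * x) : O ⊓ K ≤ OO K := by
  have h1 : ¬ 2 ∣ Nat.card (O ⊓ K : Subgroup G) := fun h =>
    hO (h.trans (card_dvd_of_le inf_le_left))
  have hn : O ⊓ K ≤ normalizer (OO K : Set G) := inf_le_right.trans (le_normalizer_OO K)
  have h2 : OO K ⊔ (O ⊓ K) ≤ OO K := by
    apply le_OO (sup_le (OO_le K) inf_le_right)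
    · intro k hk
      obtain ⟨o, ho, x, ⟨hxK, hxX⟩, rfl⟩ := hcov k hk
      refine mul_mem (le_normalizer (mem_sup_left ho)) ?_
      rw [mem_normalizer_iff_cj, cj_sup, cj_inf, mem_normalizer_iff_cj.1 (le_normalizer_OO K hxK),
        mem_normalizer_iff_cj.1 (hXO hxX), mem_normalizer_iff_cj.1 (le_normalizer hxK)]
    · exact LB.odd_sup (odd_OO K) h1 hn
  exact le_sup_right.trans h2

/-- an odd order element of `K` commuting with `K` modulo `O(K)` -/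
theorem mem_OO_of_central [Finite G] {K : Subgroup G} {c : G} (hc : c ∈ K) (ho : ¬ 2 ∣ Nat.card (zpowers c))
    (hcen : ∀ k ∈ K, c * k * c⁻¹ * k⁻¹ ∈ OO K) : c ∈ OO K := by
  have hn : zpowers c ≤ normalizer (OO K : Set G) := (zpowers_le.2 hc).trans (le_normalizer_OO K)
  have h2 : OO K ⊔ zpowers c ≤ OO K := by
    apply le_OO (sup_le (OO_le K) (zpowers_le.2 hc))
    · intro k hk
      rw [mem_normalizer_iff_cj]
      refine eq_of_le_of_card_ge ?_ (by rw [card_cj])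
      rw [cj_sup, mem_normalizer_iff_cj.1 (le_normalizer_OO K hk), sup_le_iff]
      refine ⟨le_sup_left, ?_⟩
      rw [cj_def, MonoidHom.map_zpowers, zpowers_le]
      have h1 : (MulAut.conj k).toMonoidHom c = (k * (c * k⁻¹ * c⁻¹ * (k⁻¹)⁻¹) * k⁻¹) * c := by
        simp only [MulEquiv.coe_toMonoidHom, MulAut.conj_apply]
        group
      rw [h1]
      exact mul_mem (mem_sup_left ((mem_normalizer_iff.1 (le_normalizer_OO K hk) _).1
        (hcen k⁻¹ (inv_mem hk)))) (mem_sup_right (mem_zpowers c))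
    · exact LB.odd_sup (odd_OO K) ho hn
  exact h2 (mem_sup_right (mem_zpowers c))

/-- `w ^ |V| ∈ O` for `w ∈ V O` -/
theorem pow_mem_of_mem_sup [Finite G] {V O : Subgroup G} (hV : V ≤ normalizer (O : Set G)) {w : G}
    (hw : w ∈ V ⊔ O) : w ^ Nat.card V ∈ O := by
  obtain ⟨v, hv, o, ho, rfl⟩ := exists_mul_of_mem_sup hV hw
  obtain ⟨c, hc, h1⟩ := exists_pow_mul (N := O) (hV hv) (le_normalizer ho)
    (by
      have h2 := (mem_normalizer_iff.1 (hV hv) _).1 ho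
      exact mul_mem h2 (inv_mem ho)) (Nat.card V)
  rw [h1]
  have h2 : v ^ Nat.card V = 1 := by
    have h3 : (⟨v, hv⟩ : V) ^ Nat.card V = 1 := pow_card_eq_one'
    exact congrArg Subtype.val h3
  rw [h2, one_mul]
  exact mul_mem (pow_mem ho _) hc

/-- an odd order element of `K` outside `O(K)` -/
theorem exists_odd_not_mem [Finite G] {Om : Set (Subgroup G)} (h : Hyp Om) {K : Subgroup G} (hK : K ∈ Om)
    (hT : TyTwo K) : ∃ c ∈ K, Odd (orderOf c) ∧ c ∉ OO K := by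
  by_contra hc
  push Not at hc
  have h1 : K ≤ OO K := by
    refine hT.trans ?_
    rw [closure_le]
    rintro c ⟨hcK, hco⟩
    exact hc c hcK hco
  exact odd_OO K (by
    have h2 : OO K = K := le_antisymm (OO_le K) h1
    rw [h2, ← h.orderOf_zz hK]
    have h3 : orderOf (⟨zz K, h.zz_mem hK⟩ : K) ∣ Nat.card K := orderOf_dvd_natCard _
    rwa [← orderOf_coe] at h3)

variable [Finite G] {Om : Set (Subgroup G)}

/-- **`C_G(B)` is not solvable** -/
theorem not_solvable (b : TwoEq Om) {K K' : Subgroup G} (m : Mate Om K K') (hT2 : TyTwo K) {B : Subgroup G}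
    (hB : IsPGroup 2 B) (hBK : ∀ f ∈ B, Perp f K) {s g : G} (hsw : cj s K = K')
    (hg : g ∈ centralizer (B : Set G)) (hgs : g * zz K * g⁻¹ = s) :
    ¬ Group.IsSolvable (centralizer (B : Set G)) := by
  haveI : Fact (Nat.Prime 2) := ⟨Nat.prime_two⟩
  intro hsol
  obtain ⟨X, hX⟩ : ∃ X, X = centralizer (B : Set G) := ⟨_, rfl⟩
  rw [← hX] at hsol hg
  have hK := m.hK
  have hBn : B ≤ normalizer (K : Set G) := fun f hf => (hBK f hf).mem
  -- a Sylow 2-subgroup `Q` of `K` centralised by `B`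
  obtain ⟨Q, hQ, hBQ⟩ := exists_syl_normalized hB hBn
  have hBQc : ∀ f ∈ B, ∀ x ∈ Q, f * x = x * f := fun f hf => (hBK f hf).cent b.hyp hK hQ (hBQ hf)
  have hQX : Q ≤ X := by
    intro x hx
    rw [hX, mem_centralizer_iff]
    intro f hf
    exact hBQc f hf x hx
  obtain ⟨T, hT, hQT⟩ := OneBasic.exists_syl_ge hQ.2.1 hQX
  have hTz : T ≤ centralizer {zz K} := le_centralizer_zz b hK hQ hQT hT.2.1
  obtain ⟨V, O, hVT, hTV, hO, hOX, hfac, hXO, hcen⟩ := OneF.exists_constrained hsol hT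
  have hzQ : zz K ∈ Q := by
    obtain ⟨c, v, n, hc⟩ := b.hyp.exists_gq hK hQ
    exact hc.z_mem
  have hzV : zz K ∈ V := hcen _ (hQT hzQ) fun v hv =>
    (mem_centralizer_singleton_iff.1 (hTz (hVT hv))).symm
  have hVO : V ≤ normalizer (O : Set G) := (hVT.trans hT.1).trans hXO
  -- `V O` is normal in `X`
  have hW : X ≤ normalizer ((V ⊔ O : Subgroup G) : Set G) := by
    intro x hx
    obtain ⟨o, ho, n, hn, hnV, rfl⟩ := hfac x hx
    refine mul_mem (le_normalizer (mem_sup_right ho)) ?_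
    rw [mem_normalizer_iff_cj, cj_sup, mem_normalizer_iff_cj.1 hnV, mem_normalizer_iff_cj.1 (hXO hn)]
  have hsW : s ∈ V ⊔ O := by
    rw [← hgs]
    exact (mem_normalizer_iff.1 (hW hg) _).1 (mem_sup_left hzV)
  -- the covering
  have hcov0 : K ∈ SubCent.cov Om X := by
    rw [hX]
    exact (SubCent.mem_cov_centralizer b.hyp hB).2 ⟨hK, Trivial.commutator_le b.hyp hK hQ hB hBn hBQc⟩
  have hcov : ∀ k ∈ K, ∃ o ∈ OO K, ∃ x ∈ K ⊓ X, k = o * x := fun k hk => SubCent.exists_mul hcov0 hk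
  obtain ⟨r0, hr0, hodd, hr0O⟩ := exists_odd_not_mem b.hyp hK hT2
  obtain ⟨o, ho, r, ⟨hrK, hrX⟩, hor⟩ := hcov r0 hr0
  -- `y = a r`
  obtain ⟨a, ha⟩ : ∃ a, a = s⁻¹ * r⁻¹ * s := ⟨_, rfl⟩
  have haK' : a ∈ K' := by
    have h1 : cj s⁻¹ K = K' := b.cj_inv_swap m hsw
    rw [ha, ← h1, mem_cj, inv_inv]
    have h2 : s * (s⁻¹ * r⁻¹ * s) * s⁻¹ = r⁻¹ := by group
    rw [h2]; exact inv_mem hrK
  have hyW : a * r ∈ V ⊔ O := by
    have h1 : r⁻¹ * s * r ∈ V ⊔ O := by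
      have := (mem_normalizer_iff.1 (hW (inv_mem hrX)) _).1 hsW
      rwa [inv_inv] at this
    have h2 := mul_mem (inv_mem hsW) h1
    rwa [show s⁻¹ * (r⁻¹ * s * r) = a * r by rw [ha]; group] at h2
  have hNK : ∀ x, x ∈ normalizer (K : Set G) → x ∈ normalizer (OO K : Set G) := by
    intro x hx
    rw [mem_normalizer_iff_cj, ← OO_cj, mem_normalizer_iff_cj.1 hx]
  have hK'N : ∀ x ∈ K', x ∈ normalizer (K : Set G) := fun x hx => m.symm.le_normalizer b.hyp hx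
  have hcom := (b.hyp.h2 K' m.hL K hK m.zz.symm).resolve_left m.ne.symm
  have hcm : ∀ x ∈ K', ∀ k ∈ K, x * k * x⁻¹ * k⁻¹ ∈ OO K := fun x hx k hk =>
    (hcom (commutator_mem_commutator hx hk)).2
  obtain ⟨N, hN⟩ : ∃ N, N = Nat.card V := ⟨_, rfl⟩
  obtain ⟨c, hc, hpow⟩ := exists_pow_mul (hNK a (hK'N a haK')) (hNK r (le_normalizer hrK)) (hcm a haK' r hrK) N
  have hy1O : (a * r) ^ N ∈ O := by rw [hN]; exact pow_mem_of_mem_sup hVO hyW
  -- `y1 = (a r)^N` commutes with `K ⊓ X` modulo `O(K)`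
  have hy1K : (a * r) ^ N ∈ normalizer (K : Set G) := pow_mem (mul_mem (hK'N a haK') (le_normalizer hrK)) _
  have hy1c : ∀ k ∈ K ⊓ X, (a * r) ^ N * k * ((a * r) ^ N)⁻¹ * k⁻¹ ∈ OO K := by
    rintro k ⟨hkK, hkX⟩
    apply inf_le_OO hO hXO hcov
    constructor
    · have h1 : k * ((a * r) ^ N)⁻¹ * k⁻¹ ∈ O := (mem_normalizer_iff.1 (hXO hkX) _).1 (inv_mem hy1O)
      have h2 := mul_mem hy1O h1
      rwa [show (a * r) ^ N * (k * ((a * r) ^ N)⁻¹ * k⁻¹) = (a * r) ^ N * k * ((a * r) ^ N)⁻¹ * k⁻¹ by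
        group] at h2
    · exact K.mul_mem ((mem_normalizer_iff.1 hy1K _).1 hkK) (K.inv_mem hkK)
  -- pass to `N(O(K)) / O(K)`
  have nK : ∀ k ∈ K, k ∈ normalizer (OO K : Set G) := fun k hk => le_normalizer_OO K hk
  have na := hNK a (hK'N a haK')
  have hcen2 : ∀ k ∈ K, r ^ N * k * (r ^ N)⁻¹ * k⁻¹ ∈ OO K := by
    have h1 : ∀ k ∈ K ⊓ X, r ^ N * k * (r ^ N)⁻¹ * k⁻¹ ∈ OO K := by
      intro k hk
      rw [← commute_mk (pow_mem (nK r hrK) N) (nK k hk.1)]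
      have h2 := (commute_mk (pow_mem (mul_mem na (nK r hrK)) N) (nK k hk.1)).2 (hy1c k hk)
      have h3 : mk (OO K) ⟨(a * r) ^ N, pow_mem (mul_mem na (nK r hrK)) N⟩
          = mk (OO K) ⟨a ^ N, pow_mem na N⟩ * mk (OO K) ⟨r ^ N, pow_mem (nK r hrK) N⟩ := by
        have h4 : (⟨(a * r) ^ N, pow_mem (mul_mem na (nK r hrK)) N⟩ : normalizer (OO K : Set G))
            = ⟨a ^ N, pow_mem na N⟩ * ⟨r ^ N, pow_mem (nK r hrK) N⟩ * ⟨c, le_normalizer hc⟩ :=
          Subtype.ext hpow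
        have h7 : mk (OO K) ⟨c, le_normalizer hc⟩ = 1 := mk_eq_one.2 hc
        rw [h4, map_mul, map_mul, h7, mul_one]
      have h5 : Commute (mk (OO K) ⟨a ^ N, pow_mem na N⟩) (mk (OO K) ⟨k, nK k hk.1⟩) :=
        (commute_mk _ _).2 (hcm _ (pow_mem haK' N) k hk.1)
      have h6 : mk (OO K) ⟨r ^ N, pow_mem (nK r hrK) N⟩ = (mk (OO K) ⟨a ^ N, pow_mem na N⟩)⁻¹ *
          mk (OO K) ⟨(a * r) ^ N, pow_mem (mul_mem na (nK r hrK)) N⟩ := by
        rw [h3, inv_mul_cancel_left]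
      rw [h6]
      exact h5.inv_left.mul_left h2
    intro k hk
    obtain ⟨o', ho', x, hx, rfl⟩ := hcov k hk
    rw [← commute_mk (pow_mem (nK r hrK) N) (nK _ hk)]
    have h2 := (commute_mk (pow_mem (nK r hrK) N) (nK x hx.1)).2 (h1 x hx)
    have h3 : mk (OO K) ⟨o' * x, nK _ hk⟩ = mk (OO K) ⟨x, nK x hx.1⟩ := by
      have h4 : (⟨o' * x, nK _ hk⟩ : normalizer (OO K : Set G)) = ⟨o', le_normalizer ho'⟩ * ⟨x, nK x hx.1⟩ := rfl
      rw [h4, map_mul, mk_eq_one.2 ho', one_mul]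
    rw [h3]
    exact h2
  -- replace `r` by `r0`
  have hr0N : mk (OO K) ⟨r0, nK r0 hr0⟩ = mk (OO K) ⟨r, nK r hrK⟩ := by
    have h4 : (⟨r0, nK r0 hr0⟩ : normalizer (OO K : Set G)) = ⟨o, le_normalizer ho⟩ * ⟨r, nK r hrK⟩ :=
      Subtype.ext hor
    rw [h4, map_mul, mk_eq_one.2 ho, one_mul]
  have hcen3 : ∀ k ∈ K, r0 ^ N * k * (r0 ^ N)⁻¹ * k⁻¹ ∈ OO K := by
    intro k hk
    rw [← commute_mk (pow_mem (nK r0 hr0) N) (nK k hk)]
    have h2 := (commute_mk (pow_mem (nK r hrK) N) (nK k hk)).2 (hcen2 k hk)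
    have h3 : mk (OO K) ⟨r0 ^ N, pow_mem (nK r0 hr0) N⟩ = mk (OO K) ⟨r ^ N, pow_mem (nK r hrK) N⟩ := by
      have h4 : (⟨r0 ^ N, pow_mem (nK r0 hr0) N⟩ : normalizer (OO K : Set G)) = ⟨r0, nK r0 hr0⟩ ^ N := rfl
      have h5 : (⟨r ^ N, pow_mem (nK r hrK) N⟩ : normalizer (OO K : Set G)) = ⟨r, nK r hrK⟩ ^ N := rfl
      rw [h4, h5, map_pow, map_pow, hr0N]
    rw [h3]
    exact h2
  -- `r0 ^ N ∈ O(K)`
  have hr0c : ¬ 2 ∣ Nat.card (zpowers (r0 ^ N)) := by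
    intro h
    rw [Nat.card_zpowers] at h
    have h1 := h.trans (orderOf_pow_dvd N)
    rw [← even_iff_two_dvd, ← Nat.not_odd_iff_even] at h1
    exact h1 hodd
  have hfin := mem_OO_of_central (pow_mem hr0 N) hr0c hcen3
  obtain ⟨k, hk⟩ := IsPGroup.iff_card.1 (hT.2.1.to_le hVT)
  have hcop : (orderOf r0).Coprime N := by
    rw [hN, hk]
    exact Nat.Coprime.pow_right k (Nat.coprime_comm.1 ((Nat.Prime.coprime_iff_not_dvd Nat.prime_two).2
      (by rw [← even_iff_two_dvd, ← Nat.not_odd_iff_even, not_not]; exact hodd)))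
  apply hr0O
  have h1 : r0 ∈ zpowers (r0 ^ N) := by
    obtain ⟨j, hj⟩ := exists_pow_eq_self_of_coprime hcop.symm
    have h2 : (r0 ^ N) ^ j ∈ zpowers (r0 ^ N) := pow_mem (mem_zpowers _) j
    rwa [hj] at h2
  exact (zpowers_le.2 hfin) h1

end Cfsg.Agent.Cit.TwoP
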