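import Cfsg.Agent.Cit.TwoP.Mut

/-!
# `|Om(S)| = 2`, `z₁ = z₂`: pairs of commuting classical involutions, each normalising the members of the other

`Qd Om K K' L L' T S R`: `z = zz K`, `s = zz L` commute, `s ∈ N(K)`, `z ∈ N(L)`, `T` is a Sylow 2-subgroup of
`N(K) ∩ N(K') ∩ N(L) ∩ N(L')` contained in Sylow 2-subgroups `S` of `C(z)` and `R` of `C(s)`.
-/

set_option autoImplicit false
set_option linter.style.haveILetI false
set_option linter.unusedSectionVars false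
set_option linter.unusedVariables false

namespace Cfsg.Agent.Cit.TwoP

open Subgroup Cfsg OneBasic

variable {G : Type*} [Group G] {Om : Set (Subgroup G)} {K K' L L' T S R : Subgroup G}

/-- the common normaliser of two pairs -/
def NN (K K' L L' : Subgroup G) : Subgroup G :=
  (normalizer (K : Set G) ⊓ normalizer (K' : Set G)) ⊓ (normalizer (L : Set G) ⊓ normalizer (L' : Set G))

/-- see the head of the file -/
structure Qd (Om : Set (Subgroup G)) (K K' L L' T S R : Subgroup G) : Prop where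
  fk : Fz Om K K' S
  fl : Fz Om L L' R
  ne : zz K ≠ zz L
  comm : zz K * zz L = zz L * zz K
  nk : cj (zz L) K = K
  nl : cj (zz K) L = L
  syl : Syl T (NN K K' L L')
  tS : T ≤ S
  tR : T ≤ R

namespace Dbl

variable [Finite G]

/-- the other member is fixed as well -/
theorem cj_eq' (h : Dbl Om) (hP : Pt Om K K') {g : G} (hg : cj g K = K) : cj g K' = K' := by
  rcases h.cj_or hP (h.hyp.comm_zz hP.left (mem_normalizer_iff_cj.2 hg)) with h2 | h2
  · exact h2.2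
  · exact absurd (hg.symm.trans h2.1) hP.1

theorem mem_norm' (h : Dbl Om) (hP : Pt Om K K') {g : G} (hg : g ∈ normalizer (K : Set G)) :
    g ∈ normalizer (K' : Set G) := by
  rw [mem_normalizer_iff_cj] at hg ⊢
  exact h.cj_eq' hP hg

/-- 2-elements of `K` commuting with `s`, if `z` normalises `L` -/
theorem norm_of_comm (h : Dbl Om) (hK : K ∈ Om) (hL : L ∈ Om) (hz : cj (zz K) L = L) {u : G} (hu : u ∈ K)
    (hu2 : IsPGroup 2 (zpowers u)) (hc : u * zz L = zz L * u) : u ∈ normalizer (L : Set G) := by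
  by_cases h4 : 4 ≤ orderOf u
  · exact h.hyp.h3 K hK L hL u hu hu2 h4 hc
  · obtain ⟨k, hk⟩ := (IsPGroup.iff_card (p := 2)).1 hu2
    rw [Nat.card_zpowers] at hk
    have hk1 : k ≤ 1 := by
      by_contra hk1
      apply h4
      rw [hk]
      calc 4 = 2 ^ 2 := by norm_num
        _ ≤ 2 ^ k := Nat.pow_le_pow_right (by norm_num) (by omega)
    have h2 : u * u = 1 := by
      rw [← pow_two]
      apply orderOf_dvd_iff_pow_eq_one.1
      rw [hk]
      exact (pow_dvd_pow 2 hk1).trans (by norm_num)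
    by_cases h1 : u = 1
    · rw [h1]; exact one_mem _
    · rw [h.hyp.eq_zz hK hu h2 h1, mem_normalizer_iff_cj]
      exact hz

theorem exists_qd (h : Dbl Om) (hP : Pt Om K K') (hL : Pt Om L L') (ne : zz K ≠ zz L)
    (hc : zz K * zz L = zz L * zz K) (nk : cj (zz L) K = K) (nl : cj (zz K) L = L) {A : Subgroup G}
    (hA : IsPGroup 2 A) (hAN : A ≤ NN K K' L L') : ∃ T S R, A ≤ T ∧ Qd Om K K' L L' T S R := by
  obtain ⟨T, hT, hAT⟩ := OneBasic.exists_syl_ge hA hAN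
  have h1 : T ≤ centralizer {zz K} :=
    hT.1.trans ((inf_le_left.trans inf_le_left).trans (h.hyp.normalizer_le hP.left))
  have h2 : T ≤ centralizer {zz L} :=
    hT.1.trans ((inf_le_right.trans inf_le_left).trans (h.hyp.normalizer_le hL.left))
  obtain ⟨S, hS, fS⟩ := h.exists_frame hP hT.2.1 h1
  obtain ⟨R, hR, fR⟩ := h.exists_frame hL hT.2.1 h2
  exact ⟨T, S, R, hAT, fS, fR, ne, hc, nk, nl, hT, hS, hR⟩

end Dbl

namespace Qd

variable [Finite G]

theorem symm (q : Qd Om K K' L L' T S R) : Qd Om L L' K K' T R S :=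
  ⟨q.fl, q.fk, q.ne.symm, q.comm.symm, q.nl, q.nk, by
    have := q.syl
    rwa [NN, inf_comm] at this, q.tR, q.tS⟩

theorem swapK (h : Dbl Om) (q : Qd Om K K' L L' T S R) : Qd Om K' K L L' T S R := by
  have e := h.same _ _ q.fk.pt
  refine ⟨q.fk.symm h, q.fl, by rw [← e]; exact q.ne, by rw [← e]; exact q.comm, h.cj_eq' q.fk.pt q.nk,
    by rw [← e]; exact q.nl, ?_, q.tS, q.tR⟩
  have := q.syl
  rwa [NN, inf_comm (normalizer (K : Set G))] at this

theorem swapL (h : Dbl Om) (q : Qd Om K K' L L' T S R) : Qd Om K K' L' L T S R := (q.symm.swapK h).symm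

theorem tK (q : Qd Om K K' L L' T S R) : T ≤ normalizer (K : Set G) :=
  q.syl.1.trans (inf_le_left.trans inf_le_left)

theorem tp (q : Qd Om K K' L L' T S R) : IsPGroup 2 T := q.syl.2.1

theorem tz (h : Dbl Om) (q : Qd Om K K' L L' T S R) {g : G} (hg : g ∈ T) : g * zz K = zz K * g :=
  q.fk.comm_z (q.tS hg)

theorem ts (h : Dbl Om) (q : Qd Om K K' L L' T S R) {g : G} (hg : g ∈ T) : g * zz L = zz L * g :=
  q.symm.tz h hg

/-- a 2-subgroup of `NN` normalised by `T` lies in `T` -/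
theorem le_T (q : Qd Om K K' L L' T S R) {A : Subgroup G} (hA : IsPGroup 2 A) (hAN : A ≤ NN K K' L L')
    (hn : T ≤ normalizer (A : Set G)) : A ≤ T := syl_le_of_normalizes q.syl hA hAN hn

theorem z_mem_NN (h : Dbl Om) (q : Qd Om K K' L L' T S R) : zz K ∈ NN K K' L L' := by
  have h1 : zz K ∈ normalizer (K : Set G) := le_normalizer (h.hyp.zz_mem q.fk.pt.left)
  have h2 : zz K ∈ normalizer (L : Set G) := mem_normalizer_iff_cj.2 q.nl
  exact ⟨⟨h1, h.mem_norm' q.fk.pt h1⟩, ⟨h2, h.mem_norm' q.fl.pt h2⟩⟩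

theorem zT (h : Dbl Om) (q : Qd Om K K' L L' T S R) : zz K ∈ T := by
  have h1 : zpowers (zz K) ≤ T := by
    refine q.le_T (isPGroup_zpowers_of_sq (h.hyp.zz_mul q.fk.pt.left)) (zpowers_le.2 (q.z_mem_NN h)) ?_
    intro t ht
    rw [mem_normalizer_iff_cj]
    have h2 : cj t (zpowers (zz K)) = zpowers (t * zz K * t⁻¹) := by
      rw [cj_def, MonoidHom.map_zpowers]; simp
    rw [h2, q.tz h ht, mul_inv_cancel_right]
  exact h1 (mem_zpowers _)

theorem sT (h : Dbl Om) (q : Qd Om K K' L L' T S R) : zz L ∈ T := q.symm.zT h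

theorem tQ (q : Qd Om K K' L L' T S R) : T ≤ normalizer ((K ⊓ S : Subgroup G) : Set G) := fun t ht =>
  q.fk.norm (q.tS ht) (mem_normalizer_iff_cj.1 (q.tK ht))

/-- the mutual action -/
theorem mact (h : Dbl Om) (q : Qd Om K K' L L' T S R) : Mut T (K ⊓ S) (L ⊓ R) (zz K) (zz L) := by
  have key : ∀ {K K' L L' T S R : Subgroup G}, Qd Om K K' L L' T S R → ∀ u ∈ K ⊓ S,
      u * zz L = zz L * u → u ∈ T := by
    intro K K' L L' T S R q u hu hus
    have h1 : (K ⊓ S) ⊓ centralizer {zz L} ≤ T := by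
      refine q.le_T (q.fk.p.to_le (inf_le_left.trans inf_le_right)) ?_ ?_
      · rintro w ⟨⟨hwK, hwS⟩, hws⟩
        have h2 : w ∈ normalizer (K : Set G) := le_normalizer hwK
        have h3 : w ∈ normalizer (L : Set G) :=
          h.norm_of_comm q.fk.pt.left q.fl.pt.left q.nl hwK (q.fk.p_zpowers hwS)
            (mem_centralizer_singleton_iff.1 hws)
        exact ⟨⟨h2, h.mem_norm' q.fk.pt h2⟩, ⟨h3, h.mem_norm' q.fl.pt h3⟩⟩
      · intro t ht
        rw [mem_normalizer_iff_cj, cj_inf, mem_normalizer_iff_cj.1 (q.tQ ht), cj_centralizer, q.ts h ht,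
          mul_inv_cancel_right]
    exact h1 ⟨hu, mem_centralizer_singleton_iff.2 hus⟩
  refine ⟨q.tp, q.tQ, q.symm.tQ, h.hyp.zz_mul q.fk.pt.left, h.hyp.zz_mul q.fl.pt.left, key q, key q.symm, ?_⟩
  intro u hu hu'
  by_contra hu1
  have h1 : zz K ∈ zpowers u := AutQuat.IsQ.mem_zpowers (h.hyp.isGQ q.fk.pt.left (q.fk.sylK h))
    (fun t ht => h.hyp.uniq K q.fk.pt.left t ht.1) hu hu1
  have h2 : zz K ∈ L := (zpowers_le.2 hu'.1) h1
  exact q.ne (h.hyp.uniq L q.fl.pt.left _ h2 (h.hyp.orderOf_zz q.fk.pt.left))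

/-- `z` does not centralise `L ⊓ R` -/
theorem not_cent (h : Dbl Om) (q : Qd Om K K' L L' T S R) : ¬ ∀ x ∈ L ⊓ R, zz K * x = x * zz K := fun h1 =>
  q.ne (h.eq_of_cent q.fl.pt.left q.fk.pt.left (q.fl.sylK h) h1)

/-- coordinates of `K ⊓ S` with `⟨x⟩` invariant under `T` -/
theorem exists_gq (h : Dbl Om) (q : Qd Om K K' L L' T S R) :
    ∃ x y n, GQ (K ⊓ S) x y (zz K) n ∧ ∀ w ∈ T, w * x * w⁻¹ ∈ zpowers x :=
  h.hyp.exists_gq_cyclic q.fk.pt.left (q.fk.sylK h) q.tp q.tQ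

/-- if `C_{K ⊓ S}(s)` has an element of order four then `z` centralises the generators of `L ⊓ R` -/
theorem key (h : Dbl Om) (q : Qd Om K K' L L' T S R) {u : G} (hu : u ∈ K ⊓ S) (hu4 : orderOf u = 4)
    (hus : u * zz L = zz L * u) {x y : G} {n : ℕ} (hg : GQ (L ⊓ R) x y (zz L) n)
    (hx : ∀ w ∈ T, w * x * w⁻¹ ∈ zpowers x) : zz K * x = x * zz K :=
  (q.mact h).key hg hx hu hus (h.ne_four q.fk.pt.left hu.1 hu4)

/-- type W: `s` centralises the generators of `K ⊓ S` and `z` those of `L ⊓ R` -/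
structure W (q : Qd Om K K' L L' T S R) : Prop where
  k : ∀ x y n, GQ (K ⊓ S) x y (zz K) n → (∀ w ∈ T, w * x * w⁻¹ ∈ zpowers x) → zz L * x = x * zz L
  k' : ∀ x y n, GQ (K' ⊓ S) x y (zz K') n → (∀ w ∈ T, w * x * w⁻¹ ∈ zpowers x) → zz L * x = x * zz L
  l : ∀ x y n, GQ (L ⊓ R) x y (zz L) n → (∀ w ∈ T, w * x * w⁻¹ ∈ zpowers x) → zz K * x = x * zz K
  l' : ∀ x y n, GQ (L' ⊓ R) x y (zz L') n → (∀ w ∈ T, w * x * w⁻¹ ∈ zpowers x) → zz K * x = x * zz K

theorem W.of_four (h : Dbl Om) (q : Qd Om K K' L L' T S R) {u : G} (hu : u ∈ K ⊓ S) (hu4 : orderOf u = 4)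
    (hus : u * zz L = zz L * u) : q.W := by
  have hl : ∀ x y n, GQ (L ⊓ R) x y (zz L) n → (∀ w ∈ T, w * x * w⁻¹ ∈ zpowers x) → zz K * x = x * zz K :=
    fun x y n hg hx => q.key h hu hu4 hus hg hx
  have e' := h.same _ _ q.fl.pt
  have e := h.same _ _ q.fk.pt
  have hl' : ∀ x y n, GQ (L' ⊓ R) x y (zz L') n → (∀ w ∈ T, w * x * w⁻¹ ∈ zpowers x) → zz K * x = x * zz K :=
    fun x y n hg hx => (q.swapL h).key h hu hu4 (by rw [← e']; exact hus) hg hx
  obtain ⟨x, y, n, hg, hx⟩ := q.symm.exists_gq h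
  have hzx := hl x y n hg hx
  have hv : x ^ 2 ^ n ∈ L ⊓ R := (L ⊓ R).pow_mem hg.c_mem _
  have hv4 : orderOf (x ^ 2 ^ n) = 4 := hg.orderOf_w
  have hvz : x ^ 2 ^ n * zz K = zz K * x ^ 2 ^ n := ((show Commute x (zz K) from hzx.symm).pow_left _).eq
  exact ⟨fun x y n hg hx => q.symm.key h hv hv4 hvz hg hx,
    fun x y n hg hx => (q.swapK h).symm.key h hv hv4 (by rw [← e]; exact hvz) hg hx, hl, hl'⟩

theorem W.symm {q : Qd Om K K' L L' T S R} (w : q.W) : q.symm.W := ⟨w.l, w.l', w.k, w.k'⟩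

theorem W.swapK (h : Dbl Om) {q : Qd Om K K' L L' T S R} (w : q.W) : (q.swapK h).W := by
  have e := h.same _ _ q.fk.pt
  exact ⟨w.k', w.k, by rw [← e]; exact w.l, by rw [← e]; exact w.l'⟩

end Qd

/-- `C_K(s)` has an element of order four -/
def Fix4 (K : Subgroup G) (s : G) : Prop := ∃ u ∈ K, orderOf u = 4 ∧ u * s = s * u

namespace Dbl

variable [Finite G]

/-- an element of order four of `K` commuting with `s` implies that `s` normalises `K` -/
theorem cj_eq_of_fix (h : Dbl Om) (hP : Pt Om K K') (hL : L ∈ Om) (hc : zz K * zz L = zz L * zz K)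
    (hu : Fix4 K (zz L)) : cj (zz L) K = K := by
  obtain ⟨u, hu, hu4, hus⟩ := hu
  rcases h.cj_or hP hc.symm with h1 | h1
  · exact h1.1
  · exfalso
    -- `u = s u s⁻¹ ∈ K ∩ K'`
    have h2 : u ∈ K' := by
      rw [← h1.1, mem_cj, h.hyp.zz_inv hL, ← hus, mul_assoc, h.hyp.zz_mul hL, mul_one]
      exact hu
    obtain ⟨S, hS, f⟩ := h.exists_frame hP (isPGroup_zpowers_of_four hu4)
      (zpowers_le.2 (h.hyp.le_centralizer hP.left hu))
    rcases f.inf_eq h ⟨hu, hS (mem_zpowers u)⟩ h2 with h3 | h3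
    · rw [h3, orderOf_one] at hu4; omega
    · rw [h3, h.hyp.orderOf_zz hP.left] at hu4; omega

/-- `z` normalises `L` if `C_K(s)` has an element of order four -/
theorem cj_eq_of_fix' (h : Dbl Om) (hK : K ∈ Om) (hL : L ∈ Om) (hu : Fix4 K (zz L)) : cj (zz K) L = L := by
  obtain ⟨u, hu, hu4, hus⟩ := hu
  have h1 := h.norm_four hK hL hu hu4 hus
  rw [← mem_normalizer_iff_cj, ← h.ne_four hK hu hu4]
  exact mul_mem h1 h1

/-- type W from an element of order four -/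
theorem exists_W (h : Dbl Om) (hP : Pt Om K K') (hL : Pt Om L L') (ne : zz K ≠ zz L)
    (hc : zz K * zz L = zz L * zz K) (hu : Fix4 K (zz L)) : ∃ T S R, ∃ q : Qd Om K K' L L' T S R, q.W := by
  have nk := h.cj_eq_of_fix hP hL.left hc hu
  have nl := h.cj_eq_of_fix' hP.left hL.left hu
  obtain ⟨u, hu, hu4, hus⟩ := hu
  have h2 := isPGroup_zpowers_of_four hu4
  have m1 : u ∈ normalizer (K : Set G) := le_normalizer hu
  have m2 : u ∈ normalizer (L : Set G) := h.norm_four hP.left hL.left hu hu4 hus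
  obtain ⟨T, S, R, hA, q⟩ := h.exists_qd hP hL ne hc nk nl h2 (zpowers_le.2
    ⟨⟨m1, h.mem_norm' hP m1⟩, ⟨m2, h.mem_norm' hL m2⟩⟩)
  exact ⟨T, S, R, q, Qd.W.of_four h q ⟨hu, q.tS (hA (mem_zpowers u))⟩ hu4 hus⟩

/-- the dichotomy -/
theorem fix_iff (h : Dbl Om) (hP : Pt Om K K') (hL : Pt Om L L') (ne : zz K ≠ zz L)
    (hc : zz K * zz L = zz L * zz K) (hu : Fix4 K (zz L)) :
    Fix4 K' (zz L) ∧ Fix4 L (zz K) ∧ Fix4 L' (zz K) := by
  obtain ⟨T, S, R, q, w⟩ := h.exists_W hP hL ne hc hu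
  have aux : ∀ {K K' L L' T S R : Subgroup G} (q : Qd Om K K' L L' T S R) (w : q.W), Fix4 K (zz L) := by
    intro K K' L L' T S R q w
    obtain ⟨x, y, n, hg, hx⟩ := q.exists_gq h
    exact ⟨x ^ 2 ^ n, K.pow_mem hg.c_mem.1 _, hg.orderOf_w,
      ((show Commute x (zz L) from (w.k x y n hg hx).symm).pow_left _).eq⟩
  refine ⟨aux (q.swapK h) (w.swapK h), aux q.symm w.symm, ?_⟩
  have := aux (q.symm.swapK h) (w.symm.swapK h)
  exact this

/-- the elements of order four of `C_K(z)` and the other member -/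
theorem fix_swap (h : Dbl Om) (hP : Pt Om K K') (hL : Pt Om L L') (ne : zz K ≠ zz L)
    (hc : zz K * zz L = zz L * zz K) : Fix4 K (zz L) ↔ Fix4 L (zz K) :=
  ⟨fun hu => (h.fix_iff hP hL ne hc hu).2.1, fun hu => (h.fix_iff hL hP ne.symm hc.symm hu).2.1⟩

end Dbl

end Cfsg.Agent.Cit.TwoP
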