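import Cfsg.Agent.Cit.TwoBasic
import Cfsg.Agent.Cit.OnePerp
import Cfsg.Agent.Cit.OneK1
import Cfsg.Agent.Cit.LemmaB
import Cfsg.Agent.Cit.ThreeQuat
import Cfsg.Agent.Cit.TwoB.Tools
import Cfsg.Agent.Lib.ProductSet

/-!
# Classical involutions, `|Om(S)| = 2`, `z₁ = z₂`: setting of THEOREM P (helper831, bb R18 #8039)

`Dbl Om`: `Hyp Om`, one class, `|Om(S)| = 2`, partners have the same involution, `TyOne`, `TyTwo`.
`Fz Om K K' S`: partners `K`, `K'` and a Sylow 2-subgroup `S` of `C(z)`, `z = zz K = zz K'`.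
(F2): an involution `zz L` centralising a Sylow 2-subgroup of `K` is `zz K`.
-/

set_option autoImplicit false
set_option linter.style.haveILetI false
set_option linter.unusedSectionVars false
set_option linter.unusedVariables false

namespace Cfsg.Agent.Cit.TwoP

open Subgroup Cfsg OneBasic
open scoped Pointwise

variable {G : Type*} [Group G]

/-! ### General tools -/

/-- a 2-element of `M` normalising a subgroup `W` of odd index in `M` lies in `W` -/
theorem mem_of_norm_odd [Finite G] {W M : Subgroup G} (hWM : W ≤ M) (h2 : ¬ 2 ∣ W.relIndex M) {x : G}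
    (hx : IsPGroup 2 (zpowers x)) (hxM : x ∈ M) (hxW : x ∈ normalizer (W : Set G)) : x ∈ W := by
  have h3 : W.relIndex (zpowers x ⊔ W) ∣ W.relIndex M :=
    ⟨(zpowers x ⊔ W).relIndex M, (relIndex_mul_relIndex W (zpowers x ⊔ W) M le_sup_right
      (sup_le (zpowers_le.2 hxM) hWM)).symm⟩
  have h4 : W.relIndex (zpowers x ⊔ W) ∣ Nat.card (zpowers x) := by
    haveI h5 : (W.subgroupOf (zpowers x ⊔ W)).Normal :=
      (normal_subgroupOf_iff_le_normalizer le_sup_right).2 (sup_le (zpowers_le.2 hxW) le_normalizer)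
    have h6 : W.relIndex (zpowers x ⊔ W) = W.relIndex (zpowers x) := by
      have e1 := Lib.ProductSet.card_mul_card_inf (zpowers x) W
      have e2 : Nat.card ((zpowers x : Set G) * (W : Set G) : Set G) = Nat.card (zpowers x ⊔ W : Subgroup G) := by
        rw [← coe_mul_of_left_le_normalizer_right (zpowers x) W (zpowers_le.2 hxW)]
        rfl
      rw [e2] at e1
      have e3 := relIndex_mul_relIndex (⊥ : Subgroup G) W (zpowers x ⊔ W) bot_le le_sup_right
      have e4 := relIndex_mul_relIndex (⊥ : Subgroup G) (zpowers x ⊓ W) (zpowers x) bot_le inf_le_left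
      rw [relIndex_bot_left, relIndex_bot_left] at e3 e4
      rw [inf_comm, inf_relIndex_right] at e4
      rw [← e3, ← e4, inf_comm] at e1
      have h7 : 0 < Nat.card W := Nat.card_pos
      have h8 : 0 < Nat.card (W ⊓ zpowers x : Subgroup G) := Nat.card_pos
      have h9 : (Nat.card W * Nat.card (W ⊓ zpowers x : Subgroup G)) * W.relIndex (zpowers x ⊔ W) =
          (Nat.card W * Nat.card (W ⊓ zpowers x : Subgroup G)) * W.relIndex (zpowers x) := by
        linarith
      exact Nat.eq_of_mul_eq_mul_left (Nat.mul_pos h7 h8) h9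
    rw [h6]
    exact relIndex_dvd_card _ _
  obtain ⟨k, hk⟩ := (IsPGroup.iff_card (p := 2)).1 hx
  rw [hk] at h4
  obtain ⟨j, -, hj⟩ := (Nat.dvd_prime_pow Nat.prime_two).1 h4
  have hj0 : j = 0 := by
    by_contra hj0
    apply h2
    refine Dvd.dvd.trans ?_ h3
    rw [hj]
    exact dvd_pow_self 2 hj0
  rw [hj0, pow_zero, relIndex_eq_one] at hj
  exact hj (mem_sup_left (mem_zpowers x))

/-- the product of two commuting 2-elements -/
theorem isPGroup_zpowers_mul {a b : G} (ha : IsPGroup 2 (zpowers a)) (hb : IsPGroup 2 (zpowers b))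
    (hab : a * b = b * a) : IsPGroup 2 (zpowers (a * b)) := by
  obtain ⟨k, hk⟩ := ha ⟨a, mem_zpowers a⟩
  obtain ⟨l, hl⟩ := hb ⟨b, mem_zpowers b⟩
  have hk' : a ^ 2 ^ k = 1 := congrArg Subtype.val hk
  have hl' : b ^ 2 ^ l = 1 := congrArg Subtype.val hl
  have h1 : (a * b) ^ 2 ^ (k + l) = 1 := by
    rw [(show Commute a b from hab).mul_pow, pow_add, pow_mul, hk', one_pow, one_mul, mul_comm, pow_mul, hl',
      one_pow]
  rintro ⟨x, i, hi⟩
  have hi' : (a * b) ^ i = x := hi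
  refine ⟨k + l, Subtype.ext ?_⟩
  change x ^ 2 ^ (k + l) = 1
  rw [← hi', ← zpow_natCast, ← zpow_mul, mul_comm, zpow_mul, zpow_natCast, h1, one_zpow]

theorem isPGroup_zpowers_of_four [Finite G] {u : G} (hu : orderOf u = 4) : IsPGroup 2 (zpowers u) := by
  rw [IsPGroup.iff_card]
  exact ⟨2, by rw [Nat.card_zpowers, hu]; norm_num⟩

theorem isPGroup_zpowers_of_sq [Finite G] {u : G} (hu : u * u = 1) : IsPGroup 2 (zpowers u) := by
  rw [IsPGroup.iff_card]
  obtain ⟨k, -, hk⟩ := (Nat.dvd_prime_pow Nat.prime_two).1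
    (orderOf_dvd_of_pow_eq_one (by rw [pow_one, pow_two]; exact hu : u ^ 2 ^ 1 = 1))
  exact ⟨k, by rw [Nat.card_zpowers, hk]⟩

/-- the join of two 2-groups commuting elementwise -/
theorem isPGroup_sup_of_comm [Finite G] {A B : Subgroup G} (hA : IsPGroup 2 A) (hB : IsPGroup 2 B)
    (h : ∀ a ∈ A, ∀ b ∈ B, a * b = b * a) : IsPGroup 2 (A ⊔ B : Subgroup G) :=
  isPGroup_sup_of_normalizes hA hB fun a ha => mem_normalizer_of_cent (h a ha)

theorem sq_of_orderOf_two {t : G} (h : orderOf t = 2) : t * t = 1 := by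
  rw [← pow_two, ← h, pow_orderOf_eq_one]

/-! ### The setting -/

/-- `|Om(S)| = 2`, one class, partners have the same involution -/
structure Dbl (Om : Set (Subgroup G)) : Prop where
  hyp : Hyp Om
  cls : ∀ K ∈ Om, ∀ L ∈ Om, ∃ g, cj g K = L
  two : ∀ S : Sylow 2 G, (OmS Om (S : Subgroup G)).ncard = 2
  same : ∀ K L, Pt Om K L → zz K = zz L
  one : ∀ K ∈ Om, TyOne K
  odd : ∀ K ∈ Om, TyTwo K

/-- `b ⊥ z` : `b` is `⊥ K` for all `K ∈ Om` with `zz K = z` -/
def Pp (Om : Set (Subgroup G)) (b z : G) : Prop := ∀ K ∈ Om, zz K = z → Perp b K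

/-- the products `x x'` with `x ∈ K`, `x' ∈ K'` commuting of order four, `K`, `K'` partners with involution `z` -/
def TTz (Om : Set (Subgroup G)) (z : G) : Set G :=
  {j | ∃ K K' x x', Pt Om K K' ∧ zz K = z ∧ x ∈ K ∧ x' ∈ K' ∧ orderOf x = 4 ∧ orderOf x' = 4 ∧
    x * x' = x' * x ∧ j = x * x'}

/-- no element of `TT` is perpendicular to a classical involution different from it: holds in the cases (A), (C) -/
def NP (Om : Set (Subgroup G)) : Prop :=
  ∀ z, ∀ j ∈ TTz Om z, ∀ L ∈ Om, Pp Om j (zz L) → j = zz L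

/-- partners `K`, `K'` and a Sylow 2-subgroup `S` of the centraliser of their involution -/
structure Fz (Om : Set (Subgroup G)) (K K' S : Subgroup G) : Prop where
  pt : Pt Om K K'
  syl : Syl S (centralizer {zz K})

namespace Dbl

variable [Finite G] {Om : Set (Subgroup G)} {K K' L L' S : Subgroup G}

/-- a 2-group contains Sylow 2-subgroups of at most two members -/
theorem pair (h : Dbl Om) {R : Subgroup G} (hR : IsPGroup 2 R) {K L M : Subgroup G} (hK : K ∈ OmS Om R)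
    (hL : L ∈ OmS Om R) (hM : M ∈ OmS Om R) (hne : K ≠ L) : M = K ∨ M = L := by
  haveI : Fact (Nat.Prime 2) := ⟨Nat.prime_two⟩
  obtain ⟨S, hS⟩ := hR.exists_le_sylow
  by_contra hc
  rw [not_or] at hc
  have h1 : ({K, L, M} : Set (Subgroup G)) ⊆ OmS Om (S : Subgroup G) := by
    rintro X (rfl | rfl | rfl)
    · exact OmS_mono hS hK
    · exact OmS_mono hS hL
    · exact OmS_mono hS hM
  have h2 := Set.ncard_le_ncard h1 (Set.toFinite _)
  have h3 : ({K, L, M} : Set (Subgroup G)).ncard = 3 :=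
    Set.ncard_eq_three.2 ⟨K, L, M, hne, fun h => hc.1 h.symm, fun h => hc.2 h.symm, rfl⟩
  rw [h.two S, h3] at h2
  omega

/-- every member has a partner -/
theorem exists_pt (h : Dbl Om) (hK : K ∈ Om) : ∃ L, Pt Om K L := by
  haveI : Fact (Nat.Prime 2) := ⟨Nat.prime_two⟩
  obtain ⟨Q, hQ⟩ := Hyp.exists_syl K
  obtain ⟨S, hS⟩ := hQ.2.1.exists_le_sylow
  have hKS : K ∈ OmS Om (S : Subgroup G) := mem_OmS_of_le hK hQ hS
  obtain ⟨U, V, hUV, h1⟩ := Set.ncard_eq_two.1 (h.two S)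
  have hU : U ∈ OmS Om (S : Subgroup G) := by rw [h1]; simp
  have hV : V ∈ OmS Om (S : Subgroup G) := by rw [h1]; simp
  rcases h.pair S.isPGroup' hU hV hKS hUV with rfl | rfl
  · exact ⟨V, hUV, S, S.isPGroup', hU, hV⟩
  · exact ⟨U, hUV.symm, S, S.isPGroup', hV, hU⟩

/-- different members with the same involution are partners -/
theorem pt_of_zz (h : Dbl Om) (hK : K ∈ Om) (hL : L ∈ Om) (hne : K ≠ L) (hz : zz K = zz L) : Pt Om K L := by
  haveI : Fact (Nat.Prime 2) := ⟨Nat.prime_two⟩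
  obtain ⟨Q, hQ⟩ := Hyp.exists_syl K
  obtain ⟨S, hS⟩ := hQ.2.1.exists_le_sylow
  have hKS : K ∈ OmS Om (S : Subgroup G) := mem_OmS_of_le hK hQ hS
  exact ⟨hne, S, S.isPGroup', hKS, Omz_subset h.hyp S hKS hL hz.symm⟩

theorem pt_cj (h : Dbl Om) (hP : Pt Om K K') (g : G) : Pt Om (cj g K) (cj g K') := hP.cj h.hyp.conj g

/-- a member with the involution of `K` is `K` or its partner -/
theorem eq_or (h : Dbl Om) (hP : Pt Om K K') (hL : L ∈ Om) (hz : zz L = zz K) : L = K ∨ L = K' := by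
  haveI : Fact (Nat.Prime 2) := ⟨Nat.prime_two⟩
  obtain ⟨S, hK, hK'⟩ := hP.exists_sylow
  exact h.pair S.isPGroup' hK hK' (Omz_subset h.hyp S hK hL hz) hP.1

theorem pt_unique (h : Dbl Om) (h1 : Pt Om K K') (h2 : Pt Om K L) : K' = L := by
  rcases h.eq_or h1 h2.right (h.same _ _ h2).symm with h3 | h3
  · exact absurd h3.symm h2.1
  · exact h3.symm

/-- an element of `C(z)` fixes or swaps the two members with involution `z` -/
theorem cj_or (h : Dbl Om) (hP : Pt Om K K') {g : G} (hg : g * zz K = zz K * g) :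
    (cj g K = K ∧ cj g K' = K') ∨ (cj g K = K' ∧ cj g K' = K) := by
  have e1 : zz (cj g K) = zz K := by rw [h.hyp.zz_cj hP.left, hg, mul_inv_cancel_right]
  have e2 : zz (cj g K') = zz K := by
    rw [h.hyp.zz_cj hP.right, ← h.same _ _ hP, hg, mul_inv_cancel_right]
  have h1 := h.eq_or hP (h.hyp.conj K hP.left g) e1
  have h2 := h.eq_or hP (h.hyp.conj K' hP.right g) e2
  have h3 : cj g K ≠ cj g K' := fun h4 => hP.1 (cj_inj.1 h4)
  rcases h1 with h1 | h1 <;> rcases h2 with h2 | h2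
  · exact absurd (h1.trans h2.symm) h3
  · exact Or.inl ⟨h1, h2⟩
  · exact Or.inr ⟨h1, h2⟩
  · exact absurd (h1.trans h2.symm) h3

/-- partners normalise each other -/
theorem le_normalizer_of_pt (h : Dbl Om) (hP : Pt Om K K') : K ≤ normalizer (K' : Set G) := by
  rcases h.hyp.h2 K hP.left K' hP.right (h.same _ _ hP) with h1 | h1
  · exact absurd h1 hP.1
  · intro x hx
    rw [mem_normalizer_iff_cj]
    have key : ∀ y ∈ K, cj y K' ≤ K' := by
      intro y hy k hk
      rw [mem_cj] at hk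
      have h2 : y * (y⁻¹ * k * y) * y⁻¹ * (y⁻¹ * k * y)⁻¹ ∈ K' :=
        OO_le K' (h1 (commutator_mem_commutator hy hk)).2
      have h3 := K'.mul_mem h2 hk
      have h4 : y * (y⁻¹ * k * y) * y⁻¹ * (y⁻¹ * k * y)⁻¹ * (y⁻¹ * k * y) = k := by group
      rwa [h4] at h3
    refine le_antisymm (key x hx) ?_
    have h2 := cj_mono x (key x⁻¹ (K.inv_mem hx))
    rwa [cj_cj_inv] at h2

theorem comm_le (h : Dbl Om) (hP : Pt Om K K') : ⁅K, K'⁆ ≤ OO K ⊓ OO K' :=
  (h.hyp.h2 K hP.left K' hP.right (h.same _ _ hP)).resolve_left hP.1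

theorem ne_four (h : Dbl Om) (hL : L ∈ Om) {x : G} (hx : x ∈ L) (h4 : orderOf x = 4) : x * x = zz L :=
  h.hyp.sq_of_orderOf hL hx h4

/-- (H3) -/
theorem norm_four (h : Dbl Om) (hK : K ∈ Om) (hL : L ∈ Om) {x : G} (hx : x ∈ K) (h4 : orderOf x = 4)
    (hc : x * zz L = zz L * x) : x ∈ normalizer (L : Set G) :=
  h.hyp.h3 K hK L hL x hx (isPGroup_zpowers_of_four h4) h4.ge hc

/-- (H3) for 2-elements -/
theorem norm_of_le (h : Dbl Om) (hK : K ∈ Om) (hL : L ∈ Om) {Q : Subgroup G} (hQ : Syl Q K)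
    (hc : ∀ x ∈ Q, zz L * x = x * zz L) : Q ≤ normalizer (L : Set G) := by
  obtain ⟨c, v, n, hc'⟩ := h.hyp.exists_gq hK hQ
  exact hc'.le_of_four fun x hx hx4 => h.norm_four hK hL (hQ.1 hx) hx4 (hc x hx).symm

/-- **(F2)** -/
theorem eq_of_cent (h : Dbl Om) (hK : K ∈ Om) (hL : L ∈ Om) {Q : Subgroup G} (hQ : Syl Q K)
    (hc : ∀ x ∈ Q, zz L * x = x * zz L) : zz L = zz K := by
  obtain ⟨L', hP⟩ := h.exists_pt hL
  have hz := h.same _ _ hP
  have h1 : Q ≤ normalizer (L : Set G) ⊓ normalizer (L' : Set G) :=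
    le_inf (h.norm_of_le hK hL hQ hc) (h.norm_of_le hK hP.right hQ (by rw [← hz]; exact hc))
  obtain ⟨T, hT, hQT⟩ := OneBasic.exists_syl_ge hQ.2.1 h1
  have hLn : L ≤ normalizer (L : Set G) ⊓ normalizer (L' : Set G) :=
    le_inf le_normalizer (h.le_normalizer_of_pt hP)
  have hLn' : L' ≤ normalizer (L : Set G) ⊓ normalizer (L' : Set G) :=
    le_inf (h.le_normalizer_of_pt hP.symm) le_normalizer
  have m1 : K ∈ OmS Om T := mem_OmS_of_le hK hQ hQT
  have m2 : L ∈ OmS Om T := mem_OmS_of_le hL (TwoB.syl_inf_of_normal hT hLn inf_le_left) inf_le_right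
  have m3 : L' ∈ OmS Om T :=
    mem_OmS_of_le hP.right (TwoB.syl_inf_of_normal hT hLn' inf_le_right) inf_le_right
  rcases h.pair hT.2.1 m2 m3 m1 hP.1 with h2 | h2
  · rw [h2]
  · rw [h2, hz]

/-- **(F2)** -/
theorem eq_of_perp (h : Dbl Om) (hK : K ∈ Om) (hL : L ∈ Om) (hp : Perp (zz L) K) : zz L = zz K := by
  obtain ⟨-, -, Q, hQ, hc⟩ := hp
  exact h.eq_of_cent hK hL hQ hc

/-- classical involutions are perpendicular to themselves -/
theorem pp_self (h : Dbl Om) (hK : K ∈ Om) : Pp Om (zz K) (zz K) := by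
  intro L hL hz
  rw [← hz]
  exact Perp.zz_self h.hyp hL

end Dbl

end Cfsg.Agent.Cit.TwoP
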