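import Cfsg.Agent.Cit.TwoP.TypeW

/-!
# `|Om(S)| = 2`, `z₁ = z₂`: involutions swapping the members of a pair: fusion of the elements `x xˢ`
-/

set_option autoImplicit false
set_option linter.style.haveILetI false
set_option linter.unusedSectionVars false
set_option linter.unusedVariables false

namespace Cfsg.Agent.Cit.TwoP

open Subgroup Cfsg OneBasic

variable {G : Type*} [Group G]

section general

variable [Finite G]

theorem exists_comm_pow {N : Subgroup G} (hN : Odd (Nat.card N)) {a b : G} (ha : a * a = 1) (hb : b * b = 1)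
    (hab : a * b ∈ N) : ∃ n ∈ N, n * a * n⁻¹ = b ∧ ∀ c : G, c * a = a * c → c * b = b * c → c * n = n * c := by
  have ho : Odd (orderOf (a * b)) := by
    have h1 : orderOf (a * b) ∣ Nat.card N := by
      have h2 := orderOf_dvd_natCard (⟨a * b, hab⟩ : N)
      rwa [← Subgroup.orderOf_coe] at h2
    exact hN.of_dvd_nat h1
  obtain ⟨n, hn, h⟩ := Parab.exists_conj_of_odd ha hb ho
  refine ⟨n, (zpowers_le.2 hab) hn, h, fun c hca hcb => ?_⟩
  obtain ⟨k, rfl⟩ := hn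
  exact (((show Commute c a from hca).mul_right (show Commute c b from hcb)).zpow_right k).eq

/-- an element commuting with the involution `s` modulo a subgroup of odd order -/
theorem exists_lift {N : Subgroup G} (hN : Odd (Nat.card N)) {s g : G} (hs : s * s = 1)
    (hg : s * (g⁻¹ * s * g) ∈ N) : ∃ n ∈ N, g * n * s = s * (g * n) := by
  have h1 : g⁻¹ * s * g * (g⁻¹ * s * g) = 1 := by
    calc g⁻¹ * s * g * (g⁻¹ * s * g) = g⁻¹ * (s * s) * g := by group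
      _ = 1 := by rw [hs]; group
  obtain ⟨n, hn, hns, -⟩ := exists_comm_pow hN hs h1 hg
  refine ⟨n, hn, ?_⟩
  calc g * n * s = g * (n * s * n⁻¹) * n := by group
    _ = s * (g * n) := by rw [hns]; group

end general

/-- `d(x) = x xˢ` -/
def dd (s x : G) : G := x * (s * x * s⁻¹)

theorem dd_def (s x : G) : dd s x = x * (s * x * s⁻¹) := rfl

theorem dd_cj (g s x : G) : dd (g * s * g⁻¹) (g * x * g⁻¹) = g * dd s x * g⁻¹ := by
  simp only [dd]; group

/-- `s` commutes with `x xˢ` if `x`, `xˢ` commute -/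
theorem dd_comm {s x : G} (hs : s * s = 1) (hc : x * (s * x * s⁻¹) = s * x * s⁻¹ * x) :
    dd s x * s = s * dd s x := by
  have hsi : s⁻¹ = s := inv_eq_of_mul_eq_one_right hs
  have h1 : s * dd s x * s⁻¹ = dd s x := by
    calc s * dd s x * s⁻¹ = (s * x * s⁻¹) * (s * s * x * (s * s)⁻¹) := by rw [dd]; group
      _ = s * x * s⁻¹ * x := by rw [hs]; group
      _ = dd s x := by rw [← hc, dd]
  calc dd s x * s = (s * dd s x * s⁻¹) * s := by rw [h1]
    _ = s * dd s x := by group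

/-- the commuting product -/
theorem dd_mul {s x y : G} (hc : y * (s * x * s⁻¹) = s * x * s⁻¹ * y) : dd s (x * y) = dd s x * dd s y := by
  calc dd s (x * y) = x * (y * (s * x * s⁻¹)) * (s * y * s⁻¹) := by rw [dd]; group
    _ = x * (s * x * s⁻¹ * y) * (s * y * s⁻¹) := by rw [hc]
    _ = dd s x * dd s y := by rw [dd, dd]; group

namespace Dbl

variable [Finite G] {Om : Set (Subgroup G)} {K K' L L' S : Subgroup G}

/-- `O(K) ∩ O(K')` -/
theorem odd_inf (K K' : Subgroup G) : Odd (Nat.card (OO K ⊓ OO K' : Subgroup G)) := by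
  rw [← Nat.not_even_iff_odd, even_iff_two_dvd]
  intro h2
  exact odd_OO K (h2.trans (card_dvd_of_le inf_le_left))

theorem norm_inf {g : G} (h1 : cj g K = K) (h2 : cj g K' = K') :
    g ∈ normalizer ((OO K ⊓ OO K' : Subgroup G) : Set G) := by
  rw [mem_normalizer_iff_cj, cj_inf, ← OO_cj, ← OO_cj, h1, h2]

theorem norm_inf' {g : G} (h1 : cj g K = K') (h2 : cj g K' = K) :
    g ∈ normalizer ((OO K ⊓ OO K' : Subgroup G) : Set G) := by
  rw [mem_normalizer_iff_cj, cj_inf, ← OO_cj, ← OO_cj, h1, h2, inf_comm]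

theorem norm_inf_z (h : Dbl Om) (hP : Pt Om K K') {g : G} (hg : g * zz K = zz K * g) :
    g ∈ normalizer ((OO K ⊓ OO K' : Subgroup G) : Set G) := by
  rcases h.cj_or hP hg with ⟨h1, h2⟩ | ⟨h1, h2⟩
  · exact norm_inf h1 h2
  · exact norm_inf' h1 h2

theorem comm_mem (h : Dbl Om) (hP : Pt Om K K') {a b : G} (ha : a ∈ K) (hb : b ∈ K') :
    a * b * a⁻¹ * b⁻¹ ∈ OO K ⊓ OO K' := h.comm_le hP (commutator_mem_commutator ha hb)

theorem comm_mem' (h : Dbl Om) (hP : Pt Om K K') {a b : G} (ha : a ∈ K') (hb : b ∈ K) :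
    a * b * a⁻¹ * b⁻¹ ∈ OO K ⊓ OO K' := by
  rw [inf_comm]
  exact h.comm_mem hP.symm ha hb

/-- elements of the join centralise `z` and normalise the members -/
theorem sup_le_cent (h : Dbl Om) (hP : Pt Om K K') {g : G} (hg : g ∈ K ⊔ K') : g * zz K = zz K * g := by
  have h1 : K ⊔ K' ≤ centralizer {zz K} := by
    refine sup_le (h.hyp.le_centralizer hP.left) ?_
    rw [h.same _ _ hP]
    exact h.hyp.le_centralizer hP.right
  exact mem_centralizer_singleton_iff.1 (h1 hg)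

theorem sup_fix (h : Dbl Om) (hP : Pt Om K K') {g : G} (hg : g ∈ K ⊔ K') : cj g K = K := by
  rw [← mem_normalizer_iff_cj]
  exact (sup_le le_normalizer (h.le_normalizer_of_pt hP.symm) : K ⊔ K' ≤ normalizer (K : Set G)) hg

theorem cj_sup_eq (h : Dbl Om) (hP : Pt Om K K') {g : G} (hg : g * zz K = zz K * g) :
    cj g (K ⊔ K') = K ⊔ K' := by
  rw [cj_sup]
  rcases h.cj_or hP hg with ⟨h1, h2⟩ | ⟨h1, h2⟩
  · rw [h1, h2]
  · rw [h1, h2, sup_comm]

theorem conj_mem_sup (h : Dbl Om) (hP : Pt Om K K') {g x : G} (hg : g * zz K = zz K * g) (hx : x ∈ K ⊔ K') :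
    g * x * g⁻¹ ∈ K ⊔ K' := by
  have := conj_mem_cj (g := g) hx
  rwa [h.cj_sup_eq hP hg] at this

/-- an involution `s` swapping `K`, `K'` commutes with `z` -/
theorem swap_comm (h : Dbl Om) (hP : Pt Om K K') {s : G} (hs : cj s K = K') : s * zz K = zz K * s := by
  have h1 := h.hyp.zz_cj hP.left s
  rw [hs, ← h.same _ _ hP] at h1
  calc s * zz K = (s * zz K * s⁻¹) * s := by group
    _ = zz K * s := by rw [← h1]

theorem swap' (h : Dbl Om) (hP : Pt Om K K') {s : G} (hs : cj s K = K') : cj s K' = K := by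
  rcases h.cj_or hP (h.swap_comm hP hs) with h1 | h1
  · exact absurd (h1.1.symm.trans hs) hP.1
  · exact h1.2

/-- the elements `x` of `K` of order four commuting with `xˢ` -/
structure Sw (K : Subgroup G) (s x : G) : Prop where
  mem : x ∈ K
  four : orderOf x = 4
  comm : x * (s * x * s⁻¹) = s * x * s⁻¹ * x

theorem Sw.mem_sup {s : G} (hs : cj s K = K') {x : G} (hx : Sw K s x) : dd s x ∈ K ⊔ K' := by
  refine mul_mem (mem_sup_left hx.mem) (mem_sup_right ?_)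
  rw [← hs]; exact conj_mem_cj hx.mem

theorem Sw.mem_TTz (h : Dbl Om) (hP : Pt Om K K') {s : G} (hs : cj s K = K') {x : G} (hx : Sw K s x) :
    dd s x ∈ TTz Om (zz K) :=
  ⟨K, K', x, s * x * s⁻¹, hP, rfl, hx.mem, by rw [← hs]; exact conj_mem_cj hx.mem, hx.four,
    conj_four_eq hx.four, hx.comm, rfl⟩

/-- **fusion**: the elements `x xˢ` are conjugate in `(K ⊔ K') ∩ C(s)` -/
theorem fuse (h : Dbl Om) (hP : Pt Om K K') {s : G} (hss : s * s = 1) (hs : cj s K = K') {x y : G}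
    (hx : Sw K s x) (hy : Sw K s y) : ∃ g ∈ K ⊔ K', g * s = s * g ∧ g * dd s x * g⁻¹ = dd s y := by
  obtain ⟨N, hN⟩ : ∃ N, N = OO K ⊓ OO K' := ⟨_, rfl⟩
  have hNodd : Odd (Nat.card N) := by rw [hN]; exact odd_inf K K'
  have hNle : N ≤ K ⊔ K' := by rw [hN]; exact (inf_le_left.trans (OO_le K)).trans le_sup_left
  have hNn : ∀ {g n : G}, g ∈ K ⊔ K' → n ∈ N → g * n * g⁻¹ ∈ N := by
    intro g n hg hn
    have h1 := h.norm_inf_z hP (h.sup_le_cent hP hg)
    rw [← hN] at h1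
    exact (mem_normalizer_iff.1 h1 n).1 hn
  have hsi : s⁻¹ = s := inv_eq_of_mul_eq_one_right hss
  have hs' := h.swap' hP hs
  have hcj : ∀ {u : G}, u ∈ K → s * u * s⁻¹ ∈ K' := fun hu => by rw [← hs]; exact conj_mem_cj hu
  obtain ⟨k, hk, hkx⟩ := h.hyp.conj_four hP.left (h.odd K hP.left) hx.mem hy.mem hx.four hy.four
  obtain ⟨k', hk'⟩ : ∃ k', k' = s * k * s⁻¹ := ⟨_, rfl⟩
  have hk'K : k' ∈ K' := by rw [hk']; exact hcj hk
  obtain ⟨x', hx'⟩ : ∃ x', x' = s * x * s⁻¹ := ⟨_, rfl⟩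
  obtain ⟨y', hy'⟩ : ∃ y', y' = s * y * s⁻¹ := ⟨_, rfl⟩
  have hy'K : y' ∈ K' := by rw [hy']; exact hcj hy.mem
  have hkx' : k' * x' * k'⁻¹ = y' := by rw [hk', hx', hy', ← hkx]; group
  have dx : dd s x = x * x' := by rw [dd, hx']
  have dy : dd s y = y * y' := by rw [dd, hy']
  obtain ⟨g₀, hg₀⟩ : ∃ g₀, g₀ = k * k' := ⟨_, rfl⟩
  have hg₀m : g₀ ∈ K ⊔ K' := by rw [hg₀]; exact mul_mem (mem_sup_left hk) (mem_sup_right hk'K)
  -- `g₀ d(x) g₀⁻¹ ∈ N d(y)`
  have e1 : g₀ * dd s x * g₀⁻¹ * (dd s y)⁻¹ ∈ N := by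
    have c1 : k' * x * k'⁻¹ * x⁻¹ ∈ N := by rw [hN]; exact h.comm_mem' hP hk'K hx.mem
    have c2 : k * y' * k⁻¹ * y'⁻¹ ∈ N := by rw [hN]; exact h.comm_mem hP hk hy'K
    have e : g₀ * dd s x * g₀⁻¹ * (dd s y)⁻¹ =
        (k * (k' * x * k'⁻¹ * x⁻¹) * k⁻¹) * ((k * x * k⁻¹) * (k * (k' * x' * k'⁻¹) * k⁻¹ * y'⁻¹) * y⁻¹) := by
      rw [dx, dy, hg₀]; group
    rw [e, hkx, hkx']
    exact N.mul_mem (hNn (mem_sup_left hk) c1) (hNn (mem_sup_left hy.mem) c2)
  -- lift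
  have e2 : s * (g₀⁻¹ * s * g₀) ∈ N := by
    have e : s * (g₀⁻¹ * s * g₀) = k⁻¹ * (k'⁻¹ * k * k'⁻¹⁻¹ * k⁻¹) * k := by
      have e3 : s * k' * s⁻¹ = k := by
        rw [hk']
        calc s * (s * k * s⁻¹) * s⁻¹ = (s * s) * k * (s * s)⁻¹ := by group
          _ = k := by rw [hss]; group
      calc s * (g₀⁻¹ * s * g₀) = (s * k' * s⁻¹)⁻¹ * (s * k * s⁻¹)⁻¹ * (s * s) * (k * k') := by rw [hg₀]; group
        _ = k⁻¹ * k'⁻¹ * (k * k') := by rw [e3, ← hk', hss, mul_one]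
        _ = _ := by group
    rw [e]
    have := hNn (mem_sup_left (K.inv_mem hk)) (show k'⁻¹ * k * k'⁻¹⁻¹ * k⁻¹ ∈ N by
      rw [hN]; exact h.comm_mem' hP (K'.inv_mem hk'K) hk)
    simpa only [inv_inv] using this
  obtain ⟨n, hn, hng⟩ := exists_lift hNodd hss e2
  obtain ⟨g, hg⟩ : ∃ g, g = g₀ * n := ⟨_, rfl⟩
  rw [← hg] at hng
  have hgm : g ∈ K ⊔ K' := by rw [hg]; exact mul_mem hg₀m (hNle hn)
  have dxm : dd s x ∈ K ⊔ K' := hx.mem_sup hs
  have dxc := dd_comm hss hx.comm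
  have dyc := dd_comm hss hy.comm
  have dx2 := h.TTz_sq (hx.mem_TTz h hP hs)
  have dy2 := h.TTz_sq (hy.mem_TTz h hP hs)
  have dyi : (dd s y)⁻¹ = dd s y := inv_eq_of_mul_eq_one_right dy2
  have e3 : g * dd s x * g⁻¹ * dd s y ∈ N := by
    have e : g * dd s x * g⁻¹ * dd s y = (g₀ * (n * (dd s x * n⁻¹ * (dd s x)⁻¹)) * g₀⁻¹) *
        (g₀ * dd s x * g₀⁻¹ * (dd s y)⁻¹) := by
      rw [hg, dyi]; group
    rw [e]
    exact N.mul_mem (hNn hg₀m (N.mul_mem hn (hNn dxm (N.inv_mem hn)))) e1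
  have e4 : g * dd s x * g⁻¹ * (g * dd s x * g⁻¹) = 1 := by
    calc g * dd s x * g⁻¹ * (g * dd s x * g⁻¹) = g * (dd s x * dd s x) * g⁻¹ := by group
      _ = 1 := by rw [dx2]; group
  obtain ⟨m, hm, hm1, hm2⟩ := exists_comm_pow hNodd e4 dy2 e3
  have e5 : s * (g * dd s x * g⁻¹) = g * dd s x * g⁻¹ * s := by
    have h1 : Commute s g := hng.symm
    have h2 : Commute s (dd s x) := dxc.symm
    exact ((h1.mul_right h2).mul_right h1.inv_right).eq
  have e6 := hm2 s e5 dyc.symm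
  refine ⟨m * g, mul_mem (hNle hm) hgm, ?_, ?_⟩
  · rw [mul_assoc, hng, ← mul_assoc, ← e6, mul_assoc]
  · rw [← hm1]; group

end Dbl

end Cfsg.Agent.Cit.TwoP
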