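import Cfsg.Agent.Cit.TwoP.Swap

/-!
# `|Om(S)| = 2`, `z₁ = z₂`: `s = zz L` swaps `K`, `K'`; then `z` swaps `L`, `L'` (under `NP`)
-/

set_option autoImplicit false
set_option linter.style.haveILetI false
set_option linter.unusedSectionVars false
set_option linter.unusedVariables false

namespace Cfsg.Agent.Cit.TwoP

open Subgroup Cfsg OneBasic

variable {G : Type*} [Group G] {Om : Set (Subgroup G)} {K K' L L' T S R : Subgroup G}

namespace Fz

variable [Finite G]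

theorem conj_mem' (f : Fz Om K K' S) {s x : G} (hs : s ∈ S) (hsK : Cit.cj s K = K') (hx : x ∈ K ⊓ S) :
    s * x * s⁻¹ ∈ K' ⊓ S := by
  rw [← f.cj_inf_eq hs hsK]
  exact conj_mem_cj hx

theorem comm_conj (h : Dbl Om) (f : Fz Om K K' S) {s x y : G} (hs : s ∈ S) (hsK : Cit.cj s K = K')
    (hx : x ∈ K ⊓ S) (hy : y ∈ K ⊓ S) : y * (s * x * s⁻¹) = s * x * s⁻¹ * y :=
  f.comm h hy (f.conj_mem' hs hsK hx)

theorem sw (h : Dbl Om) (f : Fz Om K K' S) {s x : G} (hs : s ∈ S) (hsK : Cit.cj s K = K')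
    (hx : x ∈ K ⊓ S) (h4 : orderOf x = 4) : Dbl.Sw K s x := ⟨hx.1, h4, f.comm_conj h hs hsK hx hx⟩

theorem dd_mem (f : Fz Om K K' S) {s x : G} (hs : s ∈ S) (hx : x ∈ S) : dd s x ∈ S :=
  S.mul_mem hx (S.mul_mem (S.mul_mem hs hx) (S.inv_mem hs))

end Fz

theorem mem_centralizer_zz [Finite G] {s g : G} (h : g * s = s * g) : g ∈ centralizer ({s} : Set G) :=
  mem_centralizer_singleton_iff.2 h

namespace Dbl

variable [Finite G]

/-- a frame for `K`, `K'` containing an involution swapping them -/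
theorem exists_frame_swap (h : Dbl Om) (hP : Pt Om K K') {s : G} (hss : s * s = 1) (hs : cj s K = K') :
    ∃ S, s ∈ S ∧ Fz Om K K' S := by
  obtain ⟨S, hS, f⟩ := h.exists_frame hP (isPGroup_zpowers_of_sq hss)
    (zpowers_le.2 (mem_centralizer_singleton_iff.2 (h.swap_comm hP hs)))
  exact ⟨S, hS (mem_zpowers s), f⟩

/-- fixing `L` is invariant under conjugation in `C(zz L)` -/
theorem fix_conj (h : Dbl Om) (hL : Pt Om L L') {e g : G} (hg : g * zz L = zz L * g)
    (he : e * zz L = zz L * e) (hf : cj (g * e * g⁻¹) L = L) : cj e L = L := by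
  have h1 : cj e (cj g⁻¹ L) = cj g⁻¹ L := by
    have h2 := congrArg (cj g⁻¹) hf
    rw [← cj_mul, show g⁻¹ * (g * e * g⁻¹) = e * g⁻¹ by group, cj_mul] at h2
    exact h2
  have hg' : g⁻¹ * zz L = zz L * g⁻¹ := ((show Commute g (zz L) from hg).inv_left).eq
  rcases h.cj_or hL hg' with ⟨h2, -⟩ | ⟨h2, -⟩
  · rwa [h2] at h1
  · rw [h2] at h1
    exact h.cj_eq' hL.symm h1

/-- (O1) -/
theorem dd_fix (h : Dbl Om) (hP : Pt Om K K') (hL : Pt Om L L') (hs : cj (zz L) K = K') {x : G}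
    (hx : Sw K (zz L) x) : cj (dd (zz L) x) L = L := by
  have hss := h.hyp.zz_mul hL.left
  obtain ⟨S, hsS, f⟩ := h.exists_frame_swap hP hss hs
  obtain ⟨a, ha, b, hb, ha4, hb4, hab4⟩ := f.exists_pair h
  have wa := f.sw h hsS hs ha ha4
  have wb := f.sw h hsS hs hb hb4
  have wab := f.sw h hsS hs (mul_mem ha hb) hab4
  have key : ∀ {y : G}, Sw K (zz L) y → cj (dd (zz L) y) L = L → cj (dd (zz L) x) L = L := by
    intro y hy hf
    obtain ⟨g, -, hg, hgx⟩ := h.fuse hP hss hs hx hy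
    rw [← hgx] at hf
    exact h.fix_conj hL hg (dd_comm hss hx.comm) hf
  by_contra hcon
  have na : cj (dd (zz L) a) L ≠ L := fun h1 => hcon (key wa h1)
  have nb : cj (dd (zz L) b) L ≠ L := fun h1 => hcon (key wb h1)
  have nab : cj (dd (zz L) (a * b)) L ≠ L := fun h1 => hcon (key wab h1)
  rcases h.cj_or hL (dd_comm hss wa.comm) with ⟨h1, -⟩ | ⟨h1, h1'⟩
  · exact na h1
  rcases h.cj_or hL (dd_comm hss wb.comm) with ⟨h2, -⟩ | ⟨h2, h2'⟩
  · exact nb h2
  apply nab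
  rw [dd_mul (f.comm_conj h hsS hs ha hb), cj_mul, h2, h1']

/-- if `s` swaps `K`, `K'` then no element of order four of `L` commutes with `z` -/
theorem no_four (h : Dbl Om) (hP : Pt Om K K') (hL : Pt Om L L') (hs : cj (zz L) K = K') {u : G} (hu : u ∈ L)
    (hu4 : orderOf u = 4) : u * zz K ≠ zz K * u := by
  intro hc
  have h1 := h.norm_four hL.left hP.left hu hu4 hc
  have h2 : zz L ∈ normalizer (K : Set G) := by
    rw [← h.ne_four hL.left hu hu4]; exact mul_mem h1 h1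
  rw [mem_normalizer_iff_cj, hs] at h2
  exact hP.1 h2.symm

/-- the same for elements of an invariant Sylow subgroup -/
theorem eq_of_comm_z (h : Dbl Om) (hP : Pt Om K K') (hL : Pt Om L L') (hs : cj (zz L) K = K') {Q : Subgroup G}
    (hQ : Syl Q L) {u : G} (hu : u ∈ Q) (hc : u * zz K = zz K * u) : u = 1 ∨ u = zz L := by
  by_cases h1 : u * u = 1
  · by_cases hu1 : u = 1
    · exact Or.inl hu1
    · exact Or.inr (h.hyp.eq_zz hL.left (hQ.1 hu) h1 hu1)
  · exfalso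
    obtain ⟨m, hm⟩ := exists_pow_four hQ.2.1 hu h1
    exact h.no_four hP hL hs (L.pow_mem (hQ.1 hu) m) hm (((show Commute u (zz K) from hc).pow_left m).eq)

/-- `x⁻¹ s x = z d(x) s` -/
theorem conj_s (h : Dbl Om) (hP : Pt Om K K') {s x : G} (hss : s * s = 1) (hx : Sw K s x) :
    x⁻¹ * s * x = zz K * dd s x * s := by
  have hsi : s⁻¹ = s := inv_eq_of_mul_eq_one_right hss
  have hxx := h.ne_four hP.left hx.mem hx.four
  have hxi : x⁻¹ = zz K * x := by
    rw [inv_eq_iff_mul_eq_one, ← hxx]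
    calc x * (x * x * x) = (x * x) * (x * x) := by group
      _ = 1 := by rw [hxx, h.hyp.zz_mul hP.left]
  calc x⁻¹ * s * x = zz K * x * s * x := by rw [hxi]
    _ = zz K * (x * (s * x * s⁻¹)) * s := by group
    _ = zz K * dd s x * s := by rw [dd]

/-- (F2) for `z d(x) s`: `d(x)` does not act on `L` as `z` -/
theorem not_cent_mul (h : Dbl Om) (hP : Pt Om K K') (hL : Pt Om L L') (hs : cj (zz L) K = K') {x : G}
    (hx : Sw K (zz L) x) {Q : Subgroup G} (hQ : Syl Q L) :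
    ¬ ∀ u ∈ Q, dd (zz L) x * zz K * u = u * (dd (zz L) x * zz K) := by
  intro hc
  have hss := h.hyp.zz_mul hL.left
  have e1 := h.conj_s hP hss hx
  have e2 : zz (cj x⁻¹ L) = zz K * dd (zz L) x * zz L := by
    rw [h.hyp.zz_cj hL.left, inv_inv, e1]
  have e3 : zz K * dd (zz L) x = dd (zz L) x * zz K := (h.sup_le_cent hP (hx.mem_sup hs)).symm
  have e4 := h.eq_of_cent hL.left (h.hyp.conj L hL.left x⁻¹) hQ (by
    intro u hu
    have h1 : Commute (dd (zz L) x * zz K) u := hc u hu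
    have h2 : Commute (zz L) u := (h.hyp.comm_zz hL.left (le_normalizer (hQ.1 hu))).symm
    rw [e2, e3]
    exact (h1.mul_left h2).eq)
  rw [e2] at e4
  have e5 : zz K * dd (zz L) x = 1 := mul_eq_right.1 e4
  have e6 : dd (zz L) x = zz K := by
    rw [← h.hyp.zz_inv hP.left]
    exact eq_inv_of_mul_eq_one_right e5
  exact h.TTz_ne (hx.mem_TTz h hP hs) e6

/-- one of `d(a)`, `d(b)`, `d(ab)` is perpendicular to `L`, if `z` normalises `L` -/
theorem one_perp (h : Dbl Om) (hP : Pt Om K K') (hL : Pt Om L L') (hs : cj (zz L) K = K')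
    (hz : cj (zz K) L = L) (f : Fz Om K K' S) (hsS : zz L ∈ S) {a b : G} (ha : a ∈ K ⊓ S) (hb : b ∈ K ⊓ S)
    (ha4 : orderOf a = 4) (hb4 : orderOf b = 4) (hab4 : orderOf (a * b) = 4) :
    Perp (dd (zz L) a) L ∨ Perp (dd (zz L) b) L ∨ Perp (dd (zz L) (a * b)) L := by
  have hss := h.hyp.zz_mul hL.left
  have wa := f.sw h hsS hs ha ha4
  have wb := f.sw h hsS hs hb hb4
  have wab := f.sw h hsS hs (mul_mem ha hb) hab4
  have hmul := dd_mul (f.comm_conj h hsS hs ha hb)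
  obtain ⟨A, hA⟩ : ∃ A : Subgroup G, A = S ⊓ normalizer (L : Set G) := ⟨_, rfl⟩
  have hAp : IsPGroup 2 A := by rw [hA]; exact f.p.to_le inf_le_left
  have hAL : A ≤ normalizer (L : Set G) := by rw [hA]; exact inf_le_right
  obtain ⟨Q, hQ, hAQ⟩ := exists_syl_normalized hAp hAL
  obtain ⟨c, v, n, hg, hcA⟩ := h.hyp.exists_gq_cyclic hL.left hQ hAp hAQ
  have hzA : zz K ∈ A := by
    rw [hA]; exact ⟨(f.zS h).2, mem_normalizer_iff_cj.2 hz⟩
  have key : ∀ {x : G}, Sw K (zz L) x → x ∈ S → dd (zz L) x ∈ A := by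
    intro x hx hxS
    rw [hA]
    exact ⟨f.dd_mem hsS hxS, mem_normalizer_iff_cj.2 (h.dd_fix hP hL hs hx)⟩
  have hae := key wa ha.2
  have hbe := key wb hb.2
  have habe := key wab (S.mul_mem ha.2 hb.2)
  have hsq : ∀ {x : G}, Sw K (zz L) x → dd (zz L) x * dd (zz L) x = 1 := fun hx =>
    h.TTz_sq (hx.mem_TTz h hP hs)
  have hcz : ∀ {x : G}, Sw K (zz L) x → dd (zz L) x * zz K = zz K * dd (zz L) x := fun hx =>
    h.sup_le_cent hP (hx.mem_sup hs)
  have pT : ∀ {g : G}, g ∈ A → (∀ u ∈ Q, g * u = u * g) → Perp g L := fun hg hc =>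
    Perp.of_mem hQ hAp hAL hg hc
  rcases one_of_three hg (hAQ hzA) (hAQ hae) (hAQ hbe) (h.hyp.zz_mul hP.left) (hsq wa) (hsq wb) (hcz wa)
    (hcz wb) (hcA _ hzA) (hcA _ hae) (hcA _ hbe) (fun q hq hc => h.eq_of_comm_z hP hL hs hQ hq hc)
    (h.not_cent_mul hP hL hs wa hQ) (h.not_cent_mul hP hL hs wb hQ)
    (by rw [← hmul]; exact h.not_cent_mul hP hL hs wab hQ) with h1 | h1 | h1
  · exact Or.inl (pT hae h1)
  · exact Or.inr (Or.inl (pT hbe h1))
  · rw [← hmul] at h1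
    exact Or.inr (Or.inr (pT habe h1))

/-- perpendicularity to `L` or `L'` is invariant under `C(zz L)` -/
theorem perp_conj (h : Dbl Om) (hL : Pt Om L L') {e g : G} (hg : g * zz L = zz L * g)
    (hp : Perp (g * e * g⁻¹) L ∨ Perp (g * e * g⁻¹) L') : Perp e L ∨ Perp e L' := by
  have hg' : g⁻¹ * zz L = zz L * g⁻¹ := ((show Commute g (zz L) from hg).inv_left).eq
  have e1 : g⁻¹ * (g * e * g⁻¹) * g⁻¹⁻¹ = e := by group
  rcases h.cj_or hL hg' with ⟨h1, h2⟩ | ⟨h1, h2⟩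
  · rcases hp with hp | hp
    · left
      have := hp.cj g⁻¹
      rwa [e1, h1] at this
    · right
      have := hp.cj g⁻¹
      rwa [e1, h2] at this
  · rcases hp with hp | hp
    · right
      have := hp.cj g⁻¹
      rwa [e1, h1] at this
    · left
      have := hp.cj g⁻¹
      rwa [e1, h2] at this

/-- (O2), (O3): under `NP`, `z` swaps `L` and `L'` -/
theorem swap_of_swap (h : Dbl Om) (hN : NP Om) (hP : Pt Om K K') (hL : Pt Om L L') (hs : cj (zz L) K = K') :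
    cj (zz K) L = L' := by
  have hss := h.hyp.zz_mul hL.left
  have hcs := h.swap_comm hP hs
  rcases h.cj_or hL hcs.symm with ⟨hz, hz'⟩ | ⟨hz, -⟩
  swap
  · exact hz
  exfalso
  have e' := h.same _ _ hL
  have hs' : cj (zz L') K = K' := by rw [← e']; exact hs
  obtain ⟨S, hsS, f⟩ := h.exists_frame_swap hP hss hs
  obtain ⟨a, ha, b, hb, ha4, hb4, hab4⟩ := f.exists_pair h
  have wa := f.sw h hsS hs ha ha4
  have wb := f.sw h hsS hs hb hb4
  have wab := f.sw h hsS hs (mul_mem ha hb) hab4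
  have hmul := dd_mul (f.comm_conj h hsS hs ha hb)
  have p1 := h.one_perp hP hL hs hz f hsS ha hb ha4 hb4 hab4
  have p2 := h.one_perp hP hL.symm hs' hz' f (by rw [← e']; exact hsS) ha hb ha4 hb4 hab4
  rw [← e'] at p2
  -- all of them are perpendicular to `L` or `L'`
  have all : ∀ {x : G}, Sw K (zz L) x → Perp (dd (zz L) x) L ∨ Perp (dd (zz L) x) L' := by
    intro x hx
    have aux : ∀ {y : G}, Sw K (zz L) y → Perp (dd (zz L) y) L → Perp (dd (zz L) x) L ∨ Perp (dd (zz L) x) L' := by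
      intro y hy hp
      obtain ⟨g, -, hg, hgx⟩ := h.fuse hP hss hs hx hy
      exact h.perp_conj hL hg (by rw [hgx]; exact Or.inl hp)
    rcases p1 with p1 | p1 | p1
    · exact aux wa p1
    · exact aux wb p1
    · exact aux wab p1
  -- a 2-group
  obtain ⟨A, hA⟩ : ∃ A : Subgroup G, A = S ⊓ normalizer (L : Set G) := ⟨_, rfl⟩
  have hAp : IsPGroup 2 A := by rw [hA]; exact f.p.to_le inf_le_left
  have hAL : A ≤ normalizer (L : Set G) := by rw [hA]; exact inf_le_right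
  have hAL' : A ≤ normalizer (L' : Set G) := fun g hg => h.mem_norm' hL (hAL hg)
  have key : ∀ {x : G}, Sw K (zz L) x → x ∈ S → dd (zz L) x ∈ A := by
    intro x hx hxS
    rw [hA]
    exact ⟨f.dd_mem hsS hxS, mem_normalizer_iff_cj.2 (h.dd_fix hP hL hs hx)⟩
  have hae := key wa ha.2
  have hbe := key wb hb.2
  have habe := key wab (S.mul_mem ha.2 hb.2)
  have hsq : ∀ {x : G}, Sw K (zz L) x → dd (zz L) x * dd (zz L) x = 1 := fun hx =>
    h.TTz_sq (hx.mem_TTz h hP hs)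
  have third : ∀ {M : Subgroup G}, M ∈ Om → A ≤ normalizer (M : Set G) →
      ((Perp (dd (zz L) a) M ∧ Perp (dd (zz L) b) M) ∨ (Perp (dd (zz L) a) M ∧ Perp (dd (zz L) (a * b)) M) ∨
        (Perp (dd (zz L) b) M ∧ Perp (dd (zz L) (a * b)) M)) →
      Perp (dd (zz L) a) M ∧ Perp (dd (zz L) b) M ∧ Perp (dd (zz L) (a * b)) M := by
    intro M hM hAM hh
    rcases hh with ⟨h1, h2⟩ | ⟨h1, h2⟩ | ⟨h1, h2⟩
    · refine ⟨h1, h2, ?_⟩
      rw [hmul]; exact Perp.mul h.hyp hM hAp hAM hae hbe h1 h2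
    · refine ⟨h1, ?_, h2⟩
      have := Perp.mul h.hyp hM hAp hAM hae habe h1 h2
      rwa [hmul, ← mul_assoc, hsq wa, one_mul] at this
    · refine ⟨?_, h1, h2⟩
      have := Perp.mul h.hyp hM hAp hAM habe hbe h2 h1
      rwa [hmul, mul_assoc, hsq wb, mul_one] at this
  have fin : ∀ {x : G}, Sw K (zz L) x → Perp (dd (zz L) x) L → Perp (dd (zz L) x) L' → False := by
    intro x hx h1 h2
    have h3 : Pp Om (dd (zz L) x) (zz L) := by
      intro M hM hz
      rcases h.eq_or hL hM hz with rfl | rfl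
      · exact h1
      · exact h2
    have h4 := hN _ _ (hx.mem_TTz h hP hs) L hL.left h3
    have h5 := h.sup_fix hP (hx.mem_sup hs)
    rw [h4, hs] at h5
    exact hP.1 h5.symm
  have qa := all wa
  have qb := all wb
  have qab := all wab
  have hL3 : ∀ {M : Subgroup G}, (M = L ∨ M = L') →
      (Perp (dd (zz L) a) M ∧ Perp (dd (zz L) b) M ∧ Perp (dd (zz L) (a * b)) M) → False := by
    rintro M (rfl | rfl) ⟨h1, h2, h3⟩
    · rcases p2 with p2 | p2 | p2
      · exact fin wa h1 p2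
      · exact fin wb h2 p2
      · exact fin wab h3 p2
    · rcases p1 with p1 | p1 | p1
      · exact fin wa p1 h1
      · exact fin wb p1 h2
      · exact fin wab p1 h3
  rcases qa with qa | qa <;> rcases qb with qb | qb <;> rcases qab with qab | qab
  · exact hL3 (Or.inl rfl) ⟨qa, qb, qab⟩
  · exact hL3 (Or.inl rfl) (third hL.left hAL (Or.inl ⟨qa, qb⟩))
  · exact hL3 (Or.inl rfl) (third hL.left hAL (Or.inr (Or.inl ⟨qa, qab⟩)))
  · exact hL3 (Or.inr rfl) (third hL.right hAL' (Or.inr (Or.inr ⟨qb, qab⟩)))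
  · exact hL3 (Or.inl rfl) (third hL.left hAL (Or.inr (Or.inr ⟨qb, qab⟩)))
  · exact hL3 (Or.inr rfl) (third hL.right hAL' (Or.inr (Or.inl ⟨qa, qab⟩)))
  · exact hL3 (Or.inr rfl) (third hL.right hAL' (Or.inl ⟨qa, qb⟩))
  · exact hL3 (Or.inr rfl) ⟨qa, qb, qab⟩

end Dbl

end Cfsg.Agent.Cit.TwoP
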