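import Cfsg.Agent.Cit.TwoP.Pair

/-!
# `|Om(S)| = 2`, `z₁ = z₂`: pairs of type W

`s = x₁ x₂ v`, `x₁ ∈ K`, `x₂ ∈ K'` of order four, `v ⊥ K, K', L`, and `v ⊥ L'` or `v z ⊥ L'`.
-/

set_option autoImplicit false
set_option linter.style.haveILetI false
set_option linter.unusedSectionVars false
set_option linter.unusedVariables false

namespace Cfsg.Agent.Cit.TwoP

open Subgroup Cfsg OneBasic

variable {G : Type*} [Group G] {Om : Set (Subgroup G)} {K K' L L' T S R : Subgroup G}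

/-- the decomposition of `zz L` for a pair of type W -/
structure WD (Om : Set (Subgroup G)) (K K' L L' : Subgroup G) (x x' v : G) : Prop where
  mem : x ∈ K
  mem' : x' ∈ K'
  four : orderOf x = 4
  four' : orderOf x' = 4
  comm : x * x' = x' * x
  cv : v * x = x * v
  cv' : v * x' = x' * v
  eq : zz L = x * x' * v
  sq : v * v = 1
  pK : Perp v K
  pK' : Perp v K'
  pL : Perp v L
  pL' : Perp v L' ∨ Perp (v * zz K) L'

namespace Qd

variable [Finite G]

theorem W.decomp (h : Dbl Om) {q : Qd Om K K' L L' T S R} (w : q.W) :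
    ∃ a ∈ K ⊓ S, ∃ b ∈ K' ⊓ S, ∃ v ∈ T, a * a = zz K ∧ b * b = zz K ∧ a * zz L = zz L * a ∧ b * zz L = zz L * b ∧
      zz L = a * b * v ∧ v * v = 1 ∧ (∀ u ∈ K ⊓ S, v * u = u * v) ∧ (∀ u ∈ K' ⊓ S, v * u = u * v) ∧
      ((∀ u ∈ L ⊓ R, v * u = u * v) ∨ (∀ u ∈ L ⊓ R, v * zz K * u = u * (v * zz K))) ∧
      ((∀ u ∈ L' ⊓ R, v * u = u * v) ∨ (∀ u ∈ L' ⊓ R, v * zz K * u = u * (v * zz K))) := by
  obtain ⟨z, hz⟩ : ∃ z, z = zz K := ⟨_, rfl⟩
  obtain ⟨s, hs⟩ : ∃ s, s = zz L := ⟨_, rfl⟩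
  have e : z = zz K' := by rw [hz]; exact h.same _ _ q.fk.pt
  have e' : s = zz L' := by rw [hs]; exact h.same _ _ q.fl.pt
  have hzz : z * z = 1 := by rw [hz]; exact h.hyp.zz_mul q.fk.pt.left
  have hss : s * s = 1 := by rw [hs]; exact h.hyp.zz_mul q.fl.pt.left
  obtain ⟨x, y, n, hg, hx⟩ := q.exists_gq h
  obtain ⟨x', y', n', hg', hx'⟩ := (q.swapK h).exists_gq h
  have hsx := w.k x y n hg hx
  have hsx' := w.k' x' y' n' hg' hx'
  have hsQ : s ∈ normalizer ((K ⊓ S : Subgroup G) : Set G) := by rw [hs]; exact q.tQ (q.sT h)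
  have hsQ' : s ∈ normalizer ((K' ⊓ S : Subgroup G) : Set G) := by rw [hs]; exact (q.swapK h).tQ (q.sT h)
  have hnc := q.symm.not_cent h
  have hnc' := (q.swapK h).symm.not_cent h
  rw [← hs] at hsx hsx' hnc hnc'
  rw [← hz] at hg
  rw [← e] at hg'
  have hsy := Mut.z_y hg hss hsQ hsx hnc
  have hsy' := Mut.z_y hg' hss hsQ' hsx' hnc'
  obtain ⟨a, ha⟩ : ∃ a, a = (x ^ 2 ^ n)⁻¹ := ⟨_, rfl⟩
  obtain ⟨b, hb⟩ : ∃ b, b = (x' ^ 2 ^ n')⁻¹ := ⟨_, rfl⟩
  have haQ : a ∈ K ⊓ S := by rw [ha]; exact inv_mem ((K ⊓ S).pow_mem hg.c_mem _)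
  have hbQ : b ∈ K' ⊓ S := by rw [hb]; exact inv_mem ((K' ⊓ S).pow_mem hg'.c_mem _)
  have haa : a * a = z := by
    rw [ha, ← mul_inv_rev, hg.w_sq]; exact inv_eq_of_mul_eq_one_right hzz
  have hbb : b * b = z := by
    rw [hb, ← mul_inv_rev, hg'.w_sq]; exact inv_eq_of_mul_eq_one_right hzz
  have hab := q.fk.comm h haQ hbQ
  have has : a * s = s * a := by
    rw [ha]; exact (((show Commute x s from hsx.symm).pow_left _).inv_left).eq
  have hbs : b * s = s * b := by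
    rw [hb]; exact (((show Commute x' s from hsx'.symm).pow_left _).inv_left).eq
  have c1 : ∀ u ∈ K ⊓ S, s * a⁻¹ * u = u * (s * a⁻¹) := by
    rw [ha, inv_inv]
    exact cent_mul_w hg (by rw [hsx, mul_inv_cancel_right]) hsy
  have c2 : ∀ u ∈ K' ⊓ S, s * b⁻¹ * u = u * (s * b⁻¹) := by
    rw [hb, inv_inv]
    exact cent_mul_w hg' (by rw [hsx', mul_inv_cancel_right]) hsy'
  obtain ⟨v, hv⟩ : ∃ v, v = s * a⁻¹ * b⁻¹ := ⟨_, rfl⟩
  have hv' : v = s * b⁻¹ * a⁻¹ := by
    have : a⁻¹ * b⁻¹ = b⁻¹ * a⁻¹ := by rw [← mul_inv_rev, ← mul_inv_rev, hab]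
    rw [hv, mul_assoc, this, mul_assoc]
  have hsab : s = a * b * v := by
    have e1 : s * a⁻¹ * b⁻¹ = a⁻¹ * b⁻¹ * s := by
      have h1 : Commute s a := has.symm
      have h2 : Commute s b := hbs.symm
      calc s * a⁻¹ * b⁻¹ = s * (a⁻¹ * b⁻¹) := by rw [mul_assoc]
        _ = a⁻¹ * b⁻¹ * s := (h1.inv_right.mul_right h2.inv_right).eq
    have e2 : a⁻¹ * b⁻¹ = (a * b)⁻¹ := by rw [hab, mul_inv_rev]
    rw [hv, e1, e2, mul_inv_cancel_left]
  have v1 : ∀ u ∈ K ⊓ S, v * u = u * v := by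
    intro u hu
    have h2 : b⁻¹ * u = u * b⁻¹ := (q.fk.comm h hu (inv_mem hbQ)).symm
    calc v * u = s * a⁻¹ * (b⁻¹ * u) := by rw [hv]; group
      _ = (s * a⁻¹ * u) * b⁻¹ := by rw [h2]; group
      _ = u * v := by rw [c1 u hu, hv]; group
  have v2 : ∀ u ∈ K' ⊓ S, v * u = u * v := by
    intro u hu
    have h2 : a⁻¹ * u = u * a⁻¹ := q.fk.comm h (inv_mem haQ) hu
    calc v * u = s * b⁻¹ * (a⁻¹ * u) := by rw [hv']; group
      _ = (s * b⁻¹ * u) * a⁻¹ := by rw [h2]; group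
      _ = u * v := by rw [c2 u hu, hv']; group
  have hvs : v * s = s * v := by
    have h1 : Commute s a := has.symm
    have h2 : Commute s b := hbs.symm
    rw [hv]
    exact (((Commute.refl s).mul_right h1.inv_right).mul_right h2.inv_right).symm.eq
  have hvv : v * v = 1 := by
    have h1 : s * s = (a * a) * (b * b) * (v * v) := by
      have e1 := v1 a haQ
      have e2 := v2 b hbQ
      calc s * s = a * b * v * (a * b * v) := by rw [← hsab]
        _ = a * b * (v * a) * b * v := by group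
        _ = a * b * a * (v * b) * v := by rw [e1]; group
        _ = a * (b * a) * b * v * v := by rw [e2]; group
        _ = (a * a) * (b * b) * (v * v) := by rw [← hab]; group
    rw [hss, haa, hbb, hzz, one_mul] at h1
    exact h1.symm
  have m1 : Mut T (K ⊓ S) (L ⊓ R) z s := by rw [hz, hs]; exact q.mact h
  have m1' : Mut T (K' ⊓ S) (L ⊓ R) z s := by
    have := (q.swapK h).mact h
    rwa [← e, ← hs] at this
  have m2 : Mut T (K ⊓ S) (L' ⊓ R) z s := by
    have := (q.swapL h).mact h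
    rwa [← hz, ← e'] at this
  have m2' : Mut T (K' ⊓ S) (L' ⊓ R) z s := by
    have := ((q.swapL h).swapK h).mact h
    rwa [← e, ← e'] at this
  have aux : ∀ {P : Subgroup G}, (∀ u ∈ P, s * u = u * s) →
      ((∀ u ∈ P, a * b * u = u * (a * b)) ∨ (∀ u ∈ P, a * b * z * u = u * (a * b * z))) →
      ((∀ u ∈ P, v * u = u * v) ∨ (∀ u ∈ P, v * z * u = u * (v * z))) := by
    intro P hPs hP
    have e1 : v = s * (a * b)⁻¹ := by rw [hv', mul_inv_rev]; group
    have hza : z * a = a * z := by rw [← haa, mul_assoc]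
    have hzb : z * b = b * z := by rw [← hbb, mul_assoc]
    have hzab : Commute z (a * b) := (show Commute z a from hza).mul_right (show Commute z b from hzb)
    have e2 : v * z = s * (a * b * z)⁻¹ := by
      have h3 : z⁻¹ = z := inv_eq_of_mul_eq_one_right hzz
      rw [e1, mul_assoc, mul_inv_rev (a * b) z, h3, (hzab.inv_right).eq]
    rcases hP with hP | hP
    · left
      intro u hu
      have h1 : Commute (a * b) u := hP u hu
      have h2 : Commute s u := hPs u hu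
      rw [e1]
      exact (h2.mul_left h1.inv_left).eq
    · right
      intro u hu
      have h1 : Commute (a * b * z) u := hP u hu
      have h2 : Commute s u := hPs u hu
      rw [e2]
      exact (h2.mul_left h1.inv_left).eq
  obtain ⟨r, t, k, hr, hrT⟩ := q.symm.exists_gq h
  obtain ⟨r', t', k', hr', hrT'⟩ := (q.swapL h).symm.exists_gq h
  have hzr := w.l r t k hr hrT
  have hzr' := w.l' r' t' k' hr' hrT'
  have nc1 := q.not_cent h
  have nc2 := (q.swapL h).not_cent h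
  rw [← hz] at hzr hzr' nc1 nc2
  rw [← hs] at hr
  rw [← e'] at hr'
  have hzT : z ∈ T := by rw [hz]; exact q.zT h
  refine ⟨a, haQ, b, hbQ, v, ?_, ?_, ?_, ?_, ?_, ?_, hvv, v1, v2, ?_, ?_⟩
  · have haT : a ∈ T := m1.memQ a haQ has
    have hbT : b ∈ T := m1'.memQ b hbQ hbs
    rw [hv]
    exact T.mul_mem (T.mul_mem (by rw [hs]; exact q.sT h) (T.inv_mem haT)) (T.inv_mem hbT)
  · rw [← hz]; exact haa
  · rw [← hz]; exact hbb
  · rw [← hs]; exact has
  · rw [← hs]; exact hbs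
  · rw [← hs]; exact hsab
  · rw [← hz]
    exact aux (fun u hu => (hr.z_comm hu).symm)
      (Mut.pair m1 m1' hr (m1.tR hzT) hzr nc1 haQ has haa hbQ hbs hbb)
  · rw [← hz]
    exact aux (fun u hu => (hr'.z_comm hu).symm)
      (Mut.pair m2 m2' hr' (m2.tR hzT) hzr' nc2 haQ has haa hbQ hbs hbb)

end Qd

namespace Dbl

variable [Finite G]

/-- **type W**, the decomposition -/
theorem exists_WD (h : Dbl Om) (hP : Pt Om K K') (hL : Pt Om L L') (ne : zz K ≠ zz L)
    (hc : zz K * zz L = zz L * zz K) (hu : Fix4 K (zz L)) : ∃ x x' v, WD Om K K' L L' x x' v := by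
  obtain ⟨T, S, R, q, w⟩ := h.exists_W hP hL ne hc hu
  obtain ⟨a, ha, b, hb, v, hvT, haa, hbb, has, hbs, hs, hvv, v1, v2, v3, v4⟩ := w.decomp h
  have e := h.same _ _ hP
  have hzz := h.hyp.zz_mul hP.left
  have hab := q.fk.comm h ha hb
  have hva := v1 a ha
  have hvb := v2 b hb
  have hvz : v * zz K = zz K * v := q.tz h hvT
  have hbz : b * zz K = zz K * b := q.fk.comm_z hb.2
  have haz : a * zz K = zz K * a := q.fk.comm_z ha.2
  have ha4 : orderOf a = 4 := h.hyp.orderOf_of_sq hP.left haa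
  have hb4 : orderOf b = 4 := h.hyp.orderOf_of_sq hP.right (by rw [← e]; exact hbb)
  have pT : ∀ {g : G} {M P : Subgroup G}, g ∈ T → T ≤ normalizer (M : Set G) → Syl P M →
      (∀ u ∈ P, g * u = u * g) → Perp g M := fun hg hM hP hc => Perp.of_mem hP q.tp hM hg hc
  have n1 := q.tK
  have n2 := (q.swapK h).tK
  have n3 := q.symm.tK
  have n4 := (q.swapL h).symm.tK
  have hzT := q.zT h
  have hvzT : v * zz K ∈ T := T.mul_mem hvT hzT
  have mz : ∀ u ∈ K ⊓ S, zz K * u = u * zz K := fun u hu => (q.fk.comm_z hu.2).symm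
  have mz' : ∀ u ∈ K' ⊓ S, zz K * u = u * zz K := fun u hu => (q.fk.comm_z hu.2).symm
  have vzz : v * zz K * zz K = v := by rw [mul_assoc, hzz, mul_one]
  rcases v3 with v3 | v3
  · refine ⟨a, b, v, ha.1, hb.1, ha4, hb4, hab, hva, hvb, hs, hvv, pT hvT n1 (q.fk.sylK h) v1,
      pT hvT n2 (q.fk.sylK' h) v2, pT hvT n3 (q.fl.sylK h) v3, ?_⟩
    rcases v4 with v4 | v4
    · exact Or.inl (pT hvT n4 (q.fl.sylK' h) v4)
    · exact Or.inr (pT hvzT n4 (q.fl.sylK' h) v4)
  · refine ⟨a, b * zz K, v * zz K, ha.1, K'.mul_mem hb.1 (by rw [e]; exact h.hyp.zz_mem hP.right), ha4, ?_, ?_, ?_,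
      ?_, ?_, ?_, ?_, ?_, ?_, ?_⟩
    · refine h.hyp.orderOf_of_sq hP.right ?_
      rw [← e]
      calc b * zz K * (b * zz K) = b * (zz K * b) * zz K := by group
        _ = (b * b) * (zz K * zz K) := by rw [← hbz]; group
        _ = zz K := by rw [hbb, hzz, mul_one]
    · rw [← mul_assoc, hab, mul_assoc, haz, ← mul_assoc]
    · rw [mul_assoc, ← haz, ← mul_assoc, hva, mul_assoc]
    · have h1 : Commute v b := hvb
      have h2 : Commute v (zz K) := hvz
      have h3 : Commute b (zz K) := hbz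
      exact ((h1.mul_right h2).mul_left (h3.symm.mul_right (Commute.refl _))).eq
    · calc zz L = a * b * (zz K * zz K) * v := by rw [hzz, mul_one, ← hs]
        _ = a * (b * zz K) * (zz K * v) := by group
        _ = a * (b * zz K) * (v * zz K) := by rw [hvz]
    · calc v * zz K * (v * zz K) = v * (zz K * v) * zz K := by group
        _ = (v * v) * (zz K * zz K) := by rw [← hvz]; group
        _ = 1 := by rw [hvv, hzz, one_mul]
    · refine pT hvzT n1 (q.fk.sylK h) fun u hu => ?_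
      rw [mul_assoc, mz u hu, ← mul_assoc, v1 u hu, mul_assoc]
    · refine pT hvzT n2 (q.fk.sylK' h) fun u hu => ?_
      rw [mul_assoc, mz' u hu, ← mul_assoc, v2 u hu, mul_assoc]
    · exact pT hvzT n3 (q.fl.sylK h) v3
    · rw [vzz]
      rcases v4 with v4 | v4
      · exact Or.inr (pT hvT n4 (q.fl.sylK' h) v4)
      · exact Or.inl (pT hvzT n4 (q.fl.sylK' h) v4)

end Dbl

/-- the facts on pairs of type W with `v ≠ 1` obtained from THEOREM T in `C(v)`: `v ⊥ L'`, and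
`x x'` is conjugate to `v z` -/
def WT (Om : Set (Subgroup G)) : Prop :=
  ∀ K K' L L' x x' v, Pt Om K K' → Pt Om L L' → zz K ≠ zz L → zz K * zz L = zz L * zz K →
    WD Om K K' L L' x x' v → v ≠ 1 → Perp v L' ∧ ∃ g, g * (x * x') * g⁻¹ = v * zz K

namespace WD

variable [Finite G] {x x' v : G}

theorem mem_TTz (h : Dbl Om) (hP : Pt Om K K') (w : WD Om K K' L L' x x' v) : x * x' ∈ TTz Om (zz K) :=
  ⟨K, K', x, x', hP, rfl, w.mem, w.mem', w.four, w.four', w.comm, rfl⟩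

theorem comm_z (h : Dbl Om) (hP : Pt Om K K') (w : WD Om K K' L L' x x' v) : v * zz K = zz K * v :=
  h.hyp.comm_zz hP.left w.pK.mem

/-- `v z ⊥ z` -/
theorem pp (h : Dbl Om) (hP : Pt Om K K') (w : WD Om K K' L L' x x' v) : Pp Om (v * zz K) (zz K) := by
  have key : ∀ {M : Subgroup G}, M ∈ Om → zz M = zz K → Perp v M → Perp (v * zz K) M := by
    intro M hM hz hp
    have hc : v * zz M = zz M * v := h.hyp.comm_zz hM hp.mem
    have hA : IsPGroup 2 (zpowers v ⊔ zpowers (zz M) : Subgroup G) := by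
      refine isPGroup_sup_of_comm (isPGroup_zpowers_of_sq w.sq) (isPGroup_zpowers_of_sq (h.hyp.zz_mul hM)) ?_
      rintro a ⟨i, rfl⟩ b ⟨l, rfl⟩
      exact ((show Commute v (zz M) from hc).zpow_zpow i l).eq
    have hle : zpowers v ⊔ zpowers (zz M) ≤ normalizer (M : Set G) :=
      sup_le (zpowers_le.2 hp.mem) (zpowers_le.2 (le_normalizer (h.hyp.zz_mem hM)))
    rw [← hz]
    exact Perp.mul h.hyp hM hA hle (mem_sup_left (mem_zpowers v)) (mem_sup_right (mem_zpowers _)) hp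
      (Perp.zz_self h.hyp hM)
  intro M hM hz
  rcases h.eq_or hP hM hz with rfl | rfl
  · exact key hM hz w.pK
  · exact key hM hz w.pK'

/-- in case (A): `v = 1` -/
theorem eq_one_of_A (h : Dbl Om) (hT : WT Om) (hA : ∀ z, ∀ j ∈ TTz Om z, ∃ L ∈ Om, zz L = j)
    (hP : Pt Om K K') (hL : Pt Om L L') (ne : zz K ≠ zz L)
    (hc : zz K * zz L = zz L * zz K) (w : WD Om K K' L L' x x' v) : v = 1 := by
  by_contra hv
  obtain ⟨-, g, hg⟩ := hT K K' L L' x x' v hP hL ne hc w hv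
  obtain ⟨J, hJ, hJj⟩ := hA _ _ (w.mem_TTz h hP)
  have h1 : zz (cj g J) = v * zz K := by rw [h.hyp.zz_cj hJ, hJj, hg]
  have h2 := w.pp h hP K hP.left rfl
  rw [← h1] at h2
  have h3 := h.eq_of_perp hP.left (h.hyp.conj J hJ g) h2
  rw [h1] at h3
  exact hv (mul_eq_right.1 h3)

/-- in case (C) there are no pairs of type W -/
theorem false_of_C (h : Dbl Om) (hT : WT Om) (hC : ∀ z, ∀ j ∈ TTz Om z, ∀ L ∈ Om, ¬ Pp Om j (zz L))
    (hP : Pt Om K K') (hL : Pt Om L L') (ne : zz K ≠ zz L)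
    (hc : zz K * zz L = zz L * zz K) (w : WD Om K K' L L' x x' v) : False := by
  by_cases hv : v = 1
  · apply hC _ _ (w.mem_TTz h hP) L hL.left
    have h1 : x * x' = zz L := by rw [w.eq, hv, mul_one]
    rw [h1]
    exact h.pp_self hL.left
  · obtain ⟨-, g, hg⟩ := hT K K' L L' x x' v hP hL ne hc w hv
    have h1 := h.TTz_cj (w.mem_TTz h hP) g
    rw [hg] at h1
    exact hC _ _ h1 K hP.left (w.pp h hP)

end WD

end Cfsg.Agent.Cit.TwoP
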