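import Cfsg.Agent.Cit.TwoP.XSyl

/-!
# X-pairs: `s = zz L` interchanges the members `K`, `K'` over `z = zz K`, and `z` interchanges `L`, `L'`

`XPr Om K K' L L' T R R'` : the pair with compatible Sylow subgroups. With `d_x = x x^s` (`x ∈ Q = K ∩ R` of
order 4) and `d'_y = y y^z` (`y ∈ P = L ∩ R'` of order 4):
* `core`: a 2-element normalising `L` and centralising the `d'_y` centralises `P`, if the `d'_y` are conjugate in
  its centraliser;
* `X1`: under `NP`, the sets `{d_x}`, `{d'_y}` coincide;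
* `xd`, `chi0`, `px`: the consequences used for THEOREM P.
-/

set_option autoImplicit false
set_option linter.style.haveILetI false
set_option linter.unusedSectionVars false
set_option linter.unusedVariables false

namespace Cfsg.Agent.Cit.TwoX

open Subgroup Cfsg Cit OneBasic TwoFK TwoPF

variable {G : Type*} [Group G]

/-- `d(x) = x xˢ` -/
def dd (s x : G) : G := x * (s * x * s⁻¹)

theorem dd_def (s x : G) : dd s x = x * (s * x * s⁻¹) := rfl

theorem dd_cj (g s x : G) : dd (g * s * g⁻¹) (g * x * g⁻¹) = g * dd s x * g⁻¹ := by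
  simp only [dd]; group

/-- `s` commutes with `x xˢ` if `x`, `xˢ` commute -/
theorem dd_comm {s x : G} (hs : s * s = 1) (hc : x * (s * x * s⁻¹) = s * x * s⁻¹ * x) :
    dd s x * s = s * dd s x := by
  have h1 : s * dd s x * s⁻¹ = dd s x := by
    calc s * dd s x * s⁻¹ = (s * x * s⁻¹) * (s * s * x * (s * s)⁻¹) := by rw [dd]; group
      _ = s * x * s⁻¹ * x := by rw [hs]; group
      _ = dd s x := by rw [← hc, dd]
  calc dd s x * s = (s * dd s x * s⁻¹) * s := by rw [h1]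
    _ = s * dd s x := by group

theorem dd_mul {s x y : G} (hc : y * (s * x * s⁻¹) = s * x * s⁻¹ * y) : dd s (x * y) = dd s x * dd s y := by
  calc dd s (x * y) = x * (y * (s * x * s⁻¹)) * (s * y * s⁻¹) := by rw [dd]; group
    _ = x * (s * x * s⁻¹ * y) * (s * y * s⁻¹) := by rw [hc]
    _ = dd s x * dd s y := by rw [dd, dd]; group

/-- see the head of the file -/
structure XPr (Om : Set (Subgroup G)) (K K' L L' T R R' : Subgroup G) [Finite G] : Prop where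
  b : TwoEq Om
  k1 : K1 Om
  m : Mate Om K K'
  m' : Mate Om L L'
  sK : cj (zz L) K = K'
  zL : cj (zz K) L = L'
  hT : Syl T (centralizer {zz K} ⊓ centralizer {zz L})
  hR : Syl R (centralizer {zz K})
  hR' : Syl R' (centralizer {zz L})
  TR : T ≤ R
  TR' : T ≤ R'

variable [Finite G] {Om : Set (Subgroup G)} {K K' L L' T R R' : Subgroup G}

/-- existence -/
theorem exists_xpr (b : TwoEq Om) (k1 : K1 Om) (hS : NSym Om) (hK : K ∈ Om) (hL : L ∈ Om)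
    (hc : zz K * zz L = zz L * zz K) (nK : zz L ∉ normalizer (K : Set G)) {A : Subgroup G}
    (hA : IsPGroup 2 A) (hAz : A ≤ centralizer {zz K} ⊓ centralizer {zz L}) :
    ∃ K' L' T R R', XPr Om K K' L L' T R R' ∧ A ≤ T := by
  obtain ⟨K', m, -⟩ := b.exists_mate hK
  obtain ⟨L', m', -⟩ := b.exists_mate hL
  obtain ⟨T, hT, hAT⟩ := exists_syl_ge hA hAz
  obtain ⟨R, hR, hTR⟩ := exists_syl_ge hT.2.1 (hT.1.trans inf_le_left)
  obtain ⟨R', hR', hTR'⟩ := exists_syl_ge hT.2.1 (hT.1.trans inf_le_right)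
  exact ⟨K', L', T, R, R', ⟨b, k1, m, m', (b.norm_or m hc.symm).resolve_left nK,
    (b.norm_or m' hc).resolve_left (fun h => nK (hS L hL K hK h)), hT, hR, hR', hTR, hTR'⟩, hAT⟩

namespace XPr

theorem symm (p : XPr Om K K' L L' T R R') : XPr Om L L' K K' T R' R :=
  ⟨p.b, p.k1, p.m', p.m, p.zL, p.sK, by rw [inf_comm]; exact p.hT, p.hR', p.hR, p.TR', p.TR⟩

theorem comm (p : XPr Om K K' L L' T R R') : zz K * zz L = zz L * zz K :=
  (p.b.comm_of_swap p.m p.sK).symm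

theorem tz (p : XPr Om K K' L L' T R R') {a : G} (ha : a ∈ T) : a * zz K = zz K * a :=
  mem_centralizer_singleton_iff.1 (p.hT.1 ha).1

theorem tt (p : XPr Om K K' L L' T R R') {a : G} (ha : a ∈ T) : a * zz L = zz L * a :=
  mem_centralizer_singleton_iff.1 (p.hT.1 ha).2

theorem rp (p : XPr Om K K' L L' T R R') : IsPGroup 2 R := p.hR.2.1

theorem tp (p : XPr Om K K' L L' T R R') : IsPGroup 2 T := p.hT.2.1

/-- `C_R(t) = T` -/
theorem mem_T (p : XPr Om K K' L L' T R R') {a : G} (ha : a ∈ R) (hat : a * zz L = zz L * a) : a ∈ T := by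
  have h1 : T = R ⊓ centralizer {zz L} :=
    syl_eq_of_le p.hT (p.rp.to_le inf_le_left) (inf_le_inf_right _ p.hR.1)
      (le_inf p.TR (p.hT.1.trans inf_le_right))
  rw [h1]
  exact ⟨ha, mem_centralizer_singleton_iff.2 hat⟩

theorem hQ (p : XPr Om K K' L L' T R R') : Syl (K ⊓ R) K := p.b.syl_inf p.m.hK p.hR

theorem hQ' (p : XPr Om K K' L L' T R R') : Syl (K' ⊓ R) K' :=
  p.b.syl_inf p.m.hL (by rw [← p.m.zz]; exact p.hR)

theorem zK_R (p : XPr Om K K' L L' T R R') : zz K ∈ R := by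
  obtain ⟨c, v, n, hc⟩ := p.b.hyp.exists_gq p.m.hK p.hQ
  exact hc.z_mem.2

theorem zK_T (p : XPr Om K K' L L' T R R') : zz K ∈ T := p.mem_T p.zK_R p.comm

theorem zL_T (p : XPr Om K K' L L' T R R') : zz L ∈ T := p.symm.zK_T

theorem zzK (p : XPr Om K K' L L' T R R') : zz K * zz K = 1 := p.b.hyp.zz_mul p.m.hK

theorem zzL (p : XPr Om K K' L L' T R R') : zz L * zz L = 1 := p.b.hyp.zz_mul p.m'.hK

theorem sK' (p : XPr Om K K' L L' T R R') : cj (zz L) K' = K := p.b.cj_symm p.m p.sK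

/-- the mirror image of the pair -/
theorem mate (p : XPr Om K K' L L' T R R') : XPr Om K' K L L' T R R' :=
  ⟨p.b, p.k1, p.m.symm, p.m', p.sK', by rw [← p.m.zz]; exact p.zL, by rw [← p.m.zz]; exact p.hT,
    by rw [← p.m.zz]; exact p.hR, p.hR', p.TR, p.TR'⟩

theorem conj_mem (p : XPr Om K K' L L' T R R') {x : G} (hx : x ∈ K ⊓ R) :
    zz L * x * (zz L)⁻¹ ∈ K' ⊓ R := by
  refine ⟨?_, R.mul_mem (R.mul_mem (p.TR p.zL_T) hx.2) (R.inv_mem (p.TR p.zL_T))⟩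
  rw [← p.sK]
  exact conj_mem_cj hx.1

theorem conj_mem' (p : XPr Om K K' L L' T R R') {x : G} (hx : x ∈ K' ⊓ R) :
    zz L * x * (zz L)⁻¹ ∈ K ⊓ R := p.mate.conj_mem hx

theorem comm_QQ (p : XPr Om K K' L L' T R R') {a a' : G} (ha : a ∈ K ⊓ R) (ha' : a' ∈ K' ⊓ R) :
    a * a' = a' * a := p.m.comm p.b.hyp p.rp ha.1 ha.2 ha'.1 ha'.2

theorem comm_dd (p : XPr Om K K' L L' T R R') {x y : G} (hx : x ∈ K ⊓ R) (hy : y ∈ K ⊓ R) :
    y * (zz L * x * (zz L)⁻¹) = zz L * x * (zz L)⁻¹ * y := p.comm_QQ hy (p.conj_mem hx)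

theorem dd_s (p : XPr Om K K' L L' T R R') {x : G} (hx : x ∈ K ⊓ R) :
    dd (zz L) x * zz L = zz L * dd (zz L) x := dd_comm p.zzL (p.comm_dd hx hx)

theorem dd_T (p : XPr Om K K' L L' T R R') {x : G} (hx : x ∈ K ⊓ R) : dd (zz L) x ∈ T :=
  p.mem_T (R.mul_mem hx.2 (p.conj_mem hx).2) (p.dd_s hx)

theorem dd_sup (p : XPr Om K K' L L' T R R') {x : G} (hx : x ∈ K ⊓ R) : dd (zz L) x ∈ K ⊔ K' :=
  mul_mem (mem_sup_left hx.1) (mem_sup_right (p.conj_mem hx).1)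

theorem dd_hom (p : XPr Om K K' L L' T R R') {x y : G} (hx : x ∈ K ⊓ R) (hy : y ∈ K ⊓ R) :
    dd (zz L) (x * y) = dd (zz L) x * dd (zz L) y := dd_mul (p.comm_dd hx hy)

theorem dd_z (p : XPr Om K K' L L' T R R') : dd (zz L) (zz K) = 1 := by
  rw [dd, ← p.comm, mul_inv_cancel_right, p.zzK]

theorem dd_one (s : G) : dd s 1 = 1 := by rw [dd]; group

theorem xz (p : XPr Om K K' L L' T R R') {x : G} (hx : x ∈ K) : x * zz K = zz K * x :=
  p.b.hyp.comm_zz p.m.hK (le_normalizer hx)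

theorem sq (p : XPr Om K K' L L' T R R') {x : G} (hx : x ∈ K) (h4 : orderOf x = 4) : x * x = zz K :=
  p.b.hyp.sq_eq_zz p.m.hK hx h4

/-- the kernel of `d` -/
theorem eq_of_dd (p : XPr Om K K' L L' T R R') {x y : G} (hx : x ∈ K ⊓ R) (hy : y ∈ K ⊓ R)
    (h : dd (zz L) x = dd (zz L) y) : x = y ∨ x = y * zz K := by
  have h1 : y⁻¹ * x = (zz L * y * (zz L)⁻¹) * (zz L * x * (zz L)⁻¹)⁻¹ := by
    rw [eq_mul_inv_iff_mul_eq, mul_assoc, inv_mul_eq_iff_eq_mul]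
    exact h
  have h2 : y⁻¹ * x ∈ K ⊓ R := mul_mem (inv_mem hy) hx
  have h3 : y⁻¹ * x ∈ K' ⊓ R := by rw [h1]; exact mul_mem (p.conj_mem hy) (inv_mem (p.conj_mem hx))
  rcases inf_inf' p.b p.m p.hR h2 h3.1 with h4 | h4
  · left; exact (inv_mul_eq_one.1 h4).symm
  · right; exact inv_mul_eq_iff_eq_mul.1 h4

theorem tt' (p : XPr Om K K' L L' T R R') {x : G} (hx : x ∈ K ⊓ R) (h4 : orderOf x = 4) :
    TT Om K K' x (zz L * x * (zz L)⁻¹) :=
  ⟨p.m, hx.1, (p.conj_mem hx).1, h4, by rw [TwoPF.orderOf_cj, h4], R, p.rp, hx.2, (p.conj_mem hx).2⟩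

theorem dd_ne (p : XPr Om K K' L L' T R R') {x : G} (hx : x ∈ K ⊓ R) (h4 : orderOf x = 4) :
    dd (zz L) x ≠ 1 := (p.tt' hx h4).ne_one p.b.hyp

theorem dd_sq (p : XPr Om K K' L L' T R R') {x : G} (hx : x ∈ K ⊓ R) (h4 : orderOf x = 4) :
    dd (zz L) x * dd (zz L) x = 1 := (p.tt' hx h4).sq p.b.hyp

theorem zK_not_sup (p : XPr Om K K' L L' T R R') : zz K ∉ L ⊔ L' := by
  intro h
  have h1 := sup_norm p.b p.m' h
  rw [mem_normalizer_iff_cj, p.zL] at h1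
  exact p.m'.ne h1.symm

theorem zL_not_sup (p : XPr Om K K' L L' T R R') : zz L ∉ K ⊔ K' := p.symm.zK_not_sup

/-- `T ∩ (K K') = {d_x z^ε}` -/
theorem eq_dd (p : XPr Om K K' L L' T R R') {u : G} (hu : u ∈ K ⊔ K') (huT : u ∈ T) :
    ∃ q ∈ K ⊓ R, u = dd (zz L) q ∨ u = dd (zz L) q * zz K := by
  obtain ⟨q, hq, q', hq', rfl⟩ := exists_mul_QQ p.b p.m p.hR hu (p.TR huT)
  refine ⟨q, hq, ?_⟩
  have h1 : zz L * (q * q') * (zz L)⁻¹ = q * q' := by rw [← p.tt huT, mul_inv_cancel_right]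
  have h2 : (zz L * q * (zz L)⁻¹) * (zz L * q' * (zz L)⁻¹) = q * q' := by
    rw [← h1]; group
  have hc := p.comm_QQ (p.conj_mem' hq') (p.conj_mem hq)
  have h3 : q⁻¹ * (zz L * q' * (zz L)⁻¹) = q' * (zz L * q * (zz L)⁻¹)⁻¹ := by
    rw [eq_mul_inv_iff_mul_eq, mul_assoc, hc, h2]; group
  have h4 : q⁻¹ * (zz L * q' * (zz L)⁻¹) ∈ K ⊓ R := mul_mem (inv_mem hq) (p.conj_mem' hq')
  rcases inf_inf' p.b p.m p.hR h4 (by rw [h3]; exact mul_mem hq'.1 (inv_mem (p.conj_mem hq).1)) with h5 | h5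
  · left
    rw [h3, mul_inv_eq_one] at h5
    rw [dd, ← h5]
  · right
    rw [h3, mul_inv_eq_iff_eq_mul] at h5
    rw [dd, mul_assoc, h5]
    have h6 := p.mate.xz (p.conj_mem hq).1
    rw [← p.m.zz] at h6
    rw [h6]

/-! ### The subgroups `E = C_{KK'}(s)`, `E' = C_{LL'}(z)` -/

/-- `C_{KK'}(s)` -/
def EE (_ : XPr Om K K' L L' T R R') : Subgroup G := (K ⊔ K') ⊓ centralizer {zz L}

theorem mem_EE (p : XPr Om K K' L L' T R R') {g : G} :
    g ∈ p.EE ↔ g ∈ K ⊔ K' ∧ g * zz L = zz L * g := by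
  rw [EE, mem_inf, mem_centralizer_singleton_iff]

/-- elements of `C(z) ∩ C(s)` normalise `E` -/
theorem conj_EE (p : XPr Om K K' L L' T R R') {g x : G} (hz : g * zz K = zz K * g) (hs : g * zz L = zz L * g)
    (hx : x ∈ p.EE) : g * x * g⁻¹ ∈ p.EE := by
  rw [p.mem_EE] at hx ⊢
  refine ⟨conj_mem_sup p.b p.m hz hx.1, ?_⟩
  have h1 : Commute g (zz L) := hs
  have h2 : Commute x (zz L) := hx.2
  exact ((h1.mul_left h2).mul_left h1.inv_left).eq

theorem EE_z (p : XPr Om K K' L L' T R R') {g : G} (hg : g ∈ p.EE) : g * zz K = zz K * g :=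
  sup_comm_zz p.b p.m (p.mem_EE.1 hg).1

theorem EE_s (p : XPr Om K K' L L' T R R') {g : G} (hg : g ∈ p.EE) : g * zz L = zz L * g := (p.mem_EE.1 hg).2

theorem dd_EE (p : XPr Om K K' L L' T R R') {x : G} (hx : x ∈ K ⊓ R) : dd (zz L) x ∈ p.EE :=
  p.mem_EE.2 ⟨p.dd_sup hx, p.dd_s hx⟩

/-- `E ∩ E'` -/
def NN (p : XPr Om K K' L L' T R R') : Subgroup G := p.EE ⊓ p.symm.EE

theorem conj_NN (p : XPr Om K K' L L' T R R') {g x : G} (hz : g * zz K = zz K * g) (hs : g * zz L = zz L * g)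
    (hx : x ∈ p.NN) : g * x * g⁻¹ ∈ p.NN :=
  ⟨p.conj_EE hz hs hx.1, p.symm.conj_EE hs hz hx.2⟩

theorem norm_NN (p : XPr Om K K' L L' T R R') {g : G} (hz : g * zz K = zz K * g) (hs : g * zz L = zz L * g) :
    g ∈ normalizer (p.NN : Set G) := by
  rw [mem_normalizer_iff_cj]
  refine eq_of_le_of_card_ge ?_ (by rw [card_cj])
  rintro _ ⟨x, hx, rfl⟩
  exact p.conj_NN hz hs hx

/-- `[E, E'] ≤ E ∩ E'` -/
theorem comm_NN (p : XPr Om K K' L L' T R R') {e f : G} (he : e ∈ p.EE) (hf : f ∈ p.symm.EE) :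
    e * f * e⁻¹ * f⁻¹ ∈ p.NN := by
  have hez := p.EE_z he
  have hes := p.EE_s he
  have hfs := p.symm.EE_z hf
  have hfz := p.symm.EE_s hf
  constructor
  · have h1 := p.conj_EE hfz hfs (inv_mem he)
    have h2 := mul_mem he h1
    rwa [show e * (f * e⁻¹ * f⁻¹) = e * f * e⁻¹ * f⁻¹ by group] at h2
  · exact mul_mem (p.symm.conj_EE hes hez hf) ((p.symm.EE).inv_mem hf)

/-- DC -/
theorem dc' (p : XPr Om K K' L L' T R R') {A : Subgroup G} (hAT : A ≤ T) (hA : ∀ a ∈ A, Perp a K) {x y : G}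
    (hx : x ∈ K ⊓ R) (hy : y ∈ K ⊓ R) (hx4 : orderOf x = 4) (hy4 : orderOf y = 4) :
    ∃ g ∈ p.EE, (∀ a ∈ A, g * a = a * g) ∧ g * dd (zz L) x * g⁻¹ = dd (zz L) y := by
  obtain ⟨g, h1, h2, h3, h4⟩ := dcA p.b p.k1 p.m p.hQ p.zzL p.sK p.tp hAT p.zL_T (fun t ht => p.tz ht)
    (fun a ha => (hA a ha).mem)
    (fun a ha q hq => (hA a ha).cent p.b.hyp p.m.hK p.hQ (by
      rw [mem_normalizer_iff_cj, cj_inf, mem_normalizer_iff_cj.1 (hA a ha).mem,
        mem_normalizer_iff_cj.1 (le_normalizer (p.TR (hAT ha)))]) q hq)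
    (fun a ha => p.tt (hAT ha)) hx hy hx4 hy4 (p.dd_T hx) (p.dd_T hy)
  exact ⟨g, p.mem_EE.2 ⟨h1, h2⟩, h3, h4⟩

/-- two elements of order 4 of `K ∩ R` whose product has order 4 -/
theorem exists_pair (p : XPr Om K K' L L' T R R') : ∃ a ∈ K ⊓ R, ∃ c ∈ K ⊓ R, orderOf a = 4 ∧ orderOf c = 4 ∧
    orderOf (a * c) = 4 := by
  obtain ⟨c, v, n, g⟩ := p.b.hyp.exists_gq p.m.hK p.hQ
  obtain ⟨a, ha, c, hc, h1, h2, h3, -⟩ := g.exists_pair
  exact ⟨a, ha, c, hc, h1, h2, h3⟩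

theorem zz_not_mem_OO (p : XPr Om K K' L L' T R R') : zz K ∉ OO K := fun h =>
  p.b.hyp.zz_ne p.m.hK (eq_one_of_mem_odd (isP_of_sq p.zzK) (odd_OO K) (mem_zpowers _) h)

/-- **CORE** -/
theorem core (p : XPr Om K K' L L' T R R') {f : G} (hf : f ∈ T) (hfK : f ∈ normalizer (K : Set G))
    (hd : ∀ x ∈ K ⊓ R, orderOf x = 4 → f * dd (zz L) x = dd (zz L) x * f)
    (hc : ∀ x ∈ K ⊓ R, ∀ y ∈ K ⊓ R, orderOf x = 4 → orderOf y = 4 → ∃ e, e * f = f * e ∧
      e * zz K = zz K * e ∧ e * zz L = zz L * e ∧ e * dd (zz L) x * e⁻¹ = dd (zz L) y) :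
    ∀ x ∈ K ⊓ R, f * x = x * f := by
  obtain ⟨s, hs⟩ : ∃ s, s = zz L := ⟨_, rfl⟩
  have hss : s * s = 1 := by rw [hs]; exact p.zzL
  have hfs : f * s = s * f := by rw [hs]; exact p.tt hf
  have hfsc : f * s * f⁻¹ = s := by rw [hfs, mul_inv_cancel_right]
  have hfz : f * zz K = zz K * f := p.tz hf
  have hfQ : ∀ x ∈ K ⊓ R, f * x * f⁻¹ ∈ K ⊓ R := fun x hx =>
    ⟨(mem_normalizer_iff.1 hfK x).1 hx.1, R.mul_mem (R.mul_mem (p.TR hf) hx.2) (R.inv_mem (p.TR hf))⟩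
  have h1 : ∀ x ∈ K ⊓ R, orderOf x = 4 → f * x * f⁻¹ = x ∨ f * x * f⁻¹ = x * zz K := by
    intro x hx h4
    apply p.eq_of_dd (hfQ x hx) hx
    have h2 := dd_cj f (zz L) x
    rw [← hs, hfsc] at h2
    rw [← hs, h2]
    have h3 := hd x hx h4
    rw [← hs] at h3
    rw [h3, mul_inv_cancel_right]
  -- a fixed element of order 4
  obtain ⟨x0, hx0, hx04, hfx0⟩ : ∃ x ∈ K ⊓ R, orderOf x = 4 ∧ f * x * f⁻¹ = x := by
    obtain ⟨a, ha, c, hc, ha4, hc4, hac4⟩ := p.exists_pair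
    rcases h1 a ha ha4 with h2 | h2
    · exact ⟨a, ha, ha4, h2⟩
    rcases h1 c hc hc4 with h3 | h3
    · exact ⟨c, hc, hc4, h3⟩
    refine ⟨a * c, mul_mem ha hc, hac4, ?_⟩
    have h4 := p.xz hc.1
    calc f * (a * c) * f⁻¹ = (f * a * f⁻¹) * (f * c * f⁻¹) := by group
      _ = a * zz K * (c * zz K) := by rw [h2, h3]
      _ = a * (zz K * c) * zz K := by group
      _ = a * c * (zz K * zz K) := by rw [← h4]; group
      _ = a * c := by rw [p.zzK, mul_one]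
  have h2 : K ⊓ R ≤ centralizer {f} := by
    apply p.b.hyp.inf_le_of_four p.rp (p.b.mem_OmS p.m.hK p.hR)
    intro x1 hx1 hx14
    rw [mem_centralizer_singleton_iff, eq_comm, ← mul_inv_eq_iff_eq_mul]
    rcases h1 x1 hx1 hx14 with h3 | h3
    · exact h3
    exfalso
    obtain ⟨e, hef, hez, hes, hed⟩ := hc x0 hx0 x1 hx1 hx04 hx14
    rw [← hs] at hes hed
    have hesc : e * s * e⁻¹ = s := by rw [hes, mul_inv_cancel_right]
    -- a further root of `d(x1)` commuting with `f`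
    obtain ⟨y, hyK, hfy, hyd⟩ : ∃ y ∈ K, f * y * f⁻¹ = y ∧ dd s y = dd s x1 := by
      have hfe : f * (e * x0 * e⁻¹) * f⁻¹ = e * x0 * e⁻¹ := by
        calc f * (e * x0 * e⁻¹) * f⁻¹ = (f * e) * x0 * (f * e)⁻¹ := by group
          _ = e * (f * x0 * f⁻¹) * e⁻¹ := by rw [← hef]; group
          _ = _ := by rw [hfx0]
      have hde : dd s (e * x0 * e⁻¹) = dd s x1 := by
        have h4 := dd_cj e s x0
        rw [hesc, hed] at h4
        exact h4
      rcases p.b.norm_or p.m hez with h4 | h4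
      · exact ⟨e * x0 * e⁻¹, (mem_normalizer_iff.1 h4 x0).1 hx0.1, hfe, hde⟩
      · have hmem : e * x0 * e⁻¹ ∈ K' := by rw [← h4]; exact conj_mem_cj hx0.1
        refine ⟨s * (e * x0 * e⁻¹) * s⁻¹, ?_, ?_, ?_⟩
        · rw [← p.sK', ← hs]; exact conj_mem_cj hmem
        · calc f * (s * (e * x0 * e⁻¹) * s⁻¹) * f⁻¹ = (f * s) * (e * x0 * e⁻¹) * (f * s)⁻¹ := by group
            _ = s * (f * (e * x0 * e⁻¹) * f⁻¹) * s⁻¹ := by rw [hfs]; group
            _ = _ := by rw [hfe]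
        · have h5 := p.comm_dd hx0 hx0
          rw [← hs] at h5
          have h6 : s * (e * x0 * e⁻¹) * s⁻¹ = e * (s * x0 * s⁻¹) * e⁻¹ := by
            calc s * (e * x0 * e⁻¹) * s⁻¹ = (s * e) * x0 * (s * e)⁻¹ := by group
              _ = (e * s) * x0 * (e * s)⁻¹ := by rw [hes]
              _ = _ := by group
          rw [← hed, dd, dd]
          calc s * (e * x0 * e⁻¹) * s⁻¹ * (s * (s * (e * x0 * e⁻¹) * s⁻¹) * s⁻¹)
              = (s * (e * x0 * e⁻¹) * s⁻¹) * ((s * s) * (e * x0 * e⁻¹) * (s * s)⁻¹) := by group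
            _ = (e * (s * x0 * s⁻¹) * e⁻¹) * (e * x0 * e⁻¹) := by rw [h6, hss]; group
            _ = e * ((s * x0 * s⁻¹) * x0) * e⁻¹ := by group
            _ = _ := by rw [← h5]
    obtain ⟨c, hcdef⟩ : ∃ c, c = x1⁻¹ * y := ⟨_, rfl⟩
    have hcK : c ∈ K := by rw [hcdef]; exact K.mul_mem (K.inv_mem hx1.1) hyK
    have hcK' : c ∈ K' := by
      have h4 : c = (s * x1 * s⁻¹) * (s * y * s⁻¹)⁻¹ := by
        rw [hcdef, eq_mul_inv_iff_mul_eq, mul_assoc, inv_mul_eq_iff_eq_mul]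
        exact hyd
      have h5 : ∀ u ∈ K, s * u * s⁻¹ ∈ K' := by
        intro u hu
        rw [← p.sK, ← hs]; exact conj_mem_cj hu
      rw [h4]
      exact K'.mul_mem (h5 _ hx1.1) (K'.inv_mem (h5 _ hyK))
    have hzc : zz K = c * (f * c * f⁻¹)⁻¹ := by
      have h4 : f * c * f⁻¹ = (x1 * zz K)⁻¹ * y := by
        calc f * c * f⁻¹ = (f * x1 * f⁻¹)⁻¹ * (f * y * f⁻¹) := by rw [hcdef]; group
          _ = _ := by rw [h3, hfy]
      have h5 := p.xz hcK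
      rw [h4, eq_mul_inv_iff_mul_eq, mul_inv_rev, p.b.hyp.zz_inv p.m.hK, hcdef]
      calc zz K * (zz K * x1⁻¹ * y) = (zz K * zz K) * (x1⁻¹ * y) := by group
        _ = x1⁻¹ * y := by rw [p.zzK, one_mul]
    have hfO : ∀ u ∈ OO K, f * u * f⁻¹ ∈ OO K := by
      intro u hu
      have h4 := conj_mem_cj (g := f) hu
      rwa [← OO_cj, mem_normalizer_iff_cj.1 hfK] at h4
    apply p.zz_not_mem_OO
    rcases inf_mem_OO p.b p.m hcK hcK' with h4 | h4
    · rw [hzc]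
      exact (OO K).mul_mem h4 ((OO K).inv_mem (hfO c h4))
    · have h5 := (OO K).mul_mem h4 ((OO K).inv_mem (hfO _ h4))
      have h6 : f * (c * zz K) * f⁻¹ = (f * c * f⁻¹) * zz K := by
        calc f * (c * zz K) * f⁻¹ = (f * c * f⁻¹) * (f * zz K * f⁻¹) := by group
          _ = _ := by rw [hfz, mul_inv_cancel_right]
      rw [h6] at h5
      have h7 : c * zz K * (f * c * f⁻¹ * zz K)⁻¹ = c * (f * c * f⁻¹)⁻¹ := by group
      rw [h7, ← hzc] at h5
      exact h5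
  exact fun x hx => (mem_centralizer_singleton_iff.1 (h2 hx)).symm

/-! ### The parity of `E ∩ E'` -/

theorem norm_conj (b : TwoEq Om) (m : Mate Om L L') {g d : G} (hg : g * zz L = zz L * g)
    (hd : d ∈ normalizer (L : Set G)) : g * d * g⁻¹ ∈ normalizer (L : Set G) := by
  rcases b.norm_or m hg with h | h
  · exact mul_mem (mul_mem h hd) (inv_mem h)
  · apply b.mem_normalizer_mate m.symm
    rw [mem_normalizer_iff_cj, ← h, ← cj_mul, show g * d * g⁻¹ * g = g * d by group, cj_mul,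
      mem_normalizer_iff_cj.1 hd]

/-- the elements `d_x` normalise `L` -/
theorem dd_norm (p : XPr Om K K' L L' T R R') {x : G} (hx : x ∈ K ⊓ R) (hx4 : orderOf x = 4) :
    dd (zz L) x ∈ normalizer (L : Set G) := by
  by_contra hcon
  have key : ∀ y ∈ K ⊓ R, orderOf y = 4 → cj (dd (zz L) y) L = L' := by
    intro y hy hy4
    apply (p.b.norm_or p.m' (p.dd_s hy)).resolve_left
    intro h1
    obtain ⟨g, hg, -, hgd⟩ := p.dc' (A := ⊥) bot_le (by
      intro a ha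
      rw [mem_bot] at ha
      rw [ha]; exact Perp.one K) hy hx hy4 hx4
    apply hcon
    rw [← hgd]
    exact norm_conj p.b p.m' (p.EE_s hg) h1
  obtain ⟨a, ha, c, hc, ha4, hc4, hac4⟩ := p.exists_pair
  have h1 := p.b.swap_mul p.m' (key a ha ha4) (key c hc hc4)
  rw [← p.dd_hom ha hc] at h1
  exact p.b.not_norm p.m' (key _ (mul_mem ha hc) hac4) h1

/-- **X2** -/
theorem perp_of_odd (p : XPr Om K K' L L' T R R') (hodd : ¬ 2 ∣ Nat.card p.NN) {x : G} (hx : x ∈ K ⊓ R)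
    (hx4 : orderOf x = 4) : Perp (dd (zz L) x) L := by
  obtain ⟨f, hf⟩ : ∃ f, f = dd (zz L) x := ⟨_, rfl⟩
  have hfT : f ∈ T := by rw [hf]; exact p.dd_T hx
  have hfE : f ∈ p.EE := by rw [hf]; exact p.dd_EE hx
  have hfL : f ∈ normalizer (L : Set G) := by rw [hf]; exact p.dd_norm hx hx4
  rw [← hf]
  have hd : ∀ y ∈ L ⊓ R', orderOf y = 4 → f * dd (zz K) y = dd (zz K) y * f := by
    intro y hy hy4
    have h1 := p.comm_NN hfE (p.symm.dd_EE hy)
    have h2 := p.symm.dd_T hy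
    have h3 := eq_one_of_mem_odd p.tp hodd (T.mul_mem (T.mul_mem (T.mul_mem hfT h2) (T.inv_mem hfT)) (T.inv_mem h2))
      h1
    rw [mul_inv_eq_one, mul_inv_eq_iff_eq_mul] at h3
    exact h3
  have h1 : ∀ y ∈ L ⊓ R', f * y = y * f := by
    apply p.symm.core hfT hfL hd
    intro y hy y1 hy1 hy4 hy14
    obtain ⟨g, hg, -, hgd⟩ := p.symm.dc' (A := ⊥) bot_le (by
      intro a ha
      rw [mem_bot] at ha
      rw [ha]; exact Perp.one L) hy hy1 hy4 hy14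
    have hgs := p.symm.EE_z hg
    have hgz := p.symm.EE_s hg
    have hBT : zpowers f ⊔ zpowers (dd (zz K) y) ≤ T :=
      sup_le (zpowers_le.2 hfT) (zpowers_le.2 (p.symm.dd_T hy))
    have hgf : g * f * g⁻¹ * f⁻¹ ∈ p.NN := by
      have h2 := p.NN.inv_mem (p.comm_NN hfE hg)
      rwa [show (f * g * f⁻¹ * g⁻¹)⁻¹ = g * f * g⁻¹ * f⁻¹ by group] at h2
    obtain ⟨n, hn, hn2⟩ := conj_mod_odd (N := p.NN) (A := T)
      (B := cj g (zpowers f ⊔ zpowers (dd (zz K) y))) hodd p.tp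
      (fun t ht => p.norm_NN (p.tz ht) (p.tt ht)) (isPGroup_cj (p.tp.to_le hBT)) (by
        rw [cj_def, Subgroup.map_sup, MonoidHom.map_zpowers, MonoidHom.map_zpowers]
        refine sup_le (zpowers_le.2 ?_) (zpowers_le.2 ?_)
        · change g * f * g⁻¹ ∈ _
          have h2 := mul_mem (mem_sup_right hgf : _ ∈ T ⊔ p.NN) (mem_sup_left hfT)
          rwa [inv_mul_cancel_right] at h2
        · change g * dd (zz K) y * g⁻¹ ∈ _
          rw [hgd]
          exact mem_sup_left (p.symm.dd_T hy1))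
    have e1 := hn2 _ (conj_mem_cj (mem_sup_left (mem_zpowers f))) f hfT hgf
    have e2 := hn2 _ (conj_mem_cj (mem_sup_right (mem_zpowers (dd (zz K) y)))) (dd (zz K) y1)
      (p.symm.dd_T hy1) (by rw [hgd, mul_inv_cancel]; exact p.NN.one_mem)
    have hns : n * zz L = zz L * n := p.EE_s hn.1
    have hnz : n * zz K = zz K * n := p.EE_z hn.1
    refine ⟨n * g, ?_, ?_, ?_, ?_⟩
    · calc n * g * f = (n * (g * f * g⁻¹) * n⁻¹) * (n * g) := by group
        _ = f * (n * g) := by rw [e1]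
    · exact ((show Commute n (zz L) from hns).mul_left (show Commute g (zz L) from hgs)).eq
    · exact ((show Commute n (zz K) from hnz).mul_left (show Commute g (zz K) from hgz)).eq
    · rw [← e2]; group
  exact ⟨p.tp.to_le (zpowers_le.2 hfT), hfL, L ⊓ R', p.symm.hQ, h1⟩

theorem even_NN (p : XPr Om K K' L L' T R R') (hN : NP Om) : 2 ∣ Nat.card p.NN := by
  by_contra hodd
  obtain ⟨a, ha, c, hc, ha4, hc4, hac4⟩ := p.exists_pair
  have h1 := hN K K' a _ (p.tt' ha ha4) L p.m'.hK (p.perp_of_odd hodd ha ha4)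
  apply p.zL_not_sup
  rw [h1]
  exact p.dd_sup ha

/-- the involutions of `T ∩ E` -/
theorem of_sq (p : XPr Om K K' L L' T R R') {u : G} (hu : u ∈ K ⊔ K') (huT : u ∈ T) (hu2 : u * u = 1)
    (hu1 : u ≠ 1) : u = zz K ∨ ∃ q ∈ K ⊓ R, orderOf q = 4 ∧ (u = dd (zz L) q ∨ u = dd (zz L) q * zz K) := by
  obtain ⟨q, hq, h⟩ := p.eq_dd hu huT
  have h1 : dd (zz L) (q * q) = 1 := by
    rw [p.dd_hom hq hq]
    have h2 := p.tz (p.dd_T hq)
    rcases h with h | h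
    · rw [← h, hu2]
    · have h3 : dd (zz L) q = u * zz K := by rw [h, mul_assoc, p.zzK, mul_one]
      rw [h3] at h2 ⊢
      calc u * zz K * (u * zz K) = u * (zz K * u) * zz K := by group
        _ = (u * u) * (zz K * zz K) := by rw [← p.tz huT]; group
        _ = 1 := by rw [hu2, p.zzK, mul_one]
  have h2 : q * q = 1 ∨ q * q = zz K := by
    have h3 := p.eq_of_dd (mul_mem hq hq) (one_mem _) (h1.trans (dd_one _).symm)
    rwa [one_mul] at h3
  rcases h2 with h2 | h2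
  · left
    have h3 : q = 1 ∨ q = zz K := by
      by_cases hq1 : q = 1
      · exact Or.inl hq1
      · exact Or.inr (p.b.hyp.uniq K p.m.hK q hq.1 (orderOf_eq_prime (by rw [pow_two]; exact h2) hq1))
    have h4 : dd (zz L) q = 1 := by
      rcases h3 with h3 | h3
      · rw [h3, dd_one]
      · rw [h3, p.dd_z]
    rw [h4, one_mul] at h
    exact h.resolve_left hu1
  · right
    exact ⟨q, hq, GQ.orderOf_of_sq h2 p.zzK (p.b.hyp.zz_ne p.m.hK), h⟩

/-- the elements `d_x` lie in `E'` -/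
theorem dd_NN (p : XPr Om K K' L L' T R R') (h2 : 2 ∣ Nat.card p.NN) {x : G} (hx : x ∈ K ⊓ R)
    (hx4 : orderOf x = 4) : dd (zz L) x ∈ p.NN := by
  haveI : Fact (Nat.Prime 2) := ⟨Nat.prime_two⟩
  -- an involution of `T ∩ E ∩ E'`
  obtain ⟨u, hu, huT, hu2, hu1⟩ : ∃ u ∈ p.NN, u ∈ T ∧ u * u = 1 ∧ u ≠ 1 := by
    have h3 : Syl (T ⊓ p.NN) p.NN := by
      refine syl_inf_nrm p.hT ?_ ?_
      · intro g hg
        exact ⟨mem_centralizer_singleton_iff.2 (p.EE_z hg.1), mem_centralizer_singleton_iff.2 (p.EE_s hg.1)⟩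
      · intro g hg
        exact p.norm_NN (mem_centralizer_singleton_iff.1 hg.1) (mem_centralizer_singleton_iff.1 hg.2)
    have h4 : 2 ∣ Nat.card (T ⊓ p.NN : Subgroup G) := by
      obtain ⟨m, hm, hc⟩ := syl_card h3
      rw [hc] at h2
      rcases (Nat.Prime.dvd_mul Nat.prime_two).1 h2 with h5 | h5
      · exact h5
      · rw [← Nat.not_even_iff_odd] at hm
        exact absurd (even_iff_two_dvd.2 h5) hm
    obtain ⟨u, hu⟩ := exists_prime_orderOf_dvd_card' 2 h4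
    refine ⟨u, u.2.2, u.2.1, ?_, ?_⟩
    · have h5 := pow_orderOf_eq_one u
      rw [hu, pow_two] at h5
      exact congrArg Subtype.val h5
    · intro h5
      rw [OneMemClass.coe_eq_one] at h5
      rw [h5, orderOf_one] at hu
      omega
  have hzN : zz K ∉ p.NN := fun h => p.zK_not_sup (p.symm.mem_EE.1 h.2).1
  rcases p.of_sq (p.mem_EE.1 hu.1).1 huT hu2 hu1 with h3 | ⟨q, hq, hq4, h3⟩
  · rw [h3] at hu
    exact absurd hu hzN
  -- all `d_y` or all `d_y z` lie in `E ∩ E'`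
  have key : ∀ w : G, w * zz K = zz K * w → (∀ g : G, g ∈ p.EE → g * w = w * g) → dd (zz L) q * w ∈ p.NN →
      ∀ y ∈ K ⊓ R, orderOf y = 4 → dd (zz L) y * w ∈ p.NN := by
    intro w _ hw hqw y hy hy4
    obtain ⟨g, hg, -, hgd⟩ := p.dc' (A := ⊥) bot_le (by
      intro a ha
      rw [mem_bot] at ha
      rw [ha]; exact Perp.one K) hq hy hq4 hy4
    have h4 := p.conj_NN (p.EE_z hg) (p.EE_s hg) hqw
    have h5 : g * (dd (zz L) q * w) * g⁻¹ = dd (zz L) y * w := by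
      calc g * (dd (zz L) q * w) * g⁻¹ = (g * dd (zz L) q * g⁻¹) * ((g * w) * g⁻¹) := by group
        _ = _ := by rw [hgd, hw g hg, mul_inv_cancel_right]
    rwa [h5] at h4
  rcases h3 with h3 | h3
  · have h4 := key 1 (by rw [one_mul, mul_one]) (fun g _ => by rw [one_mul, mul_one]) (by
      rw [mul_one, ← h3]; exact hu) x hx hx4
    rwa [mul_one] at h4
  · exfalso
    have h4 := key (zz K) rfl (fun g hg => p.EE_z hg) (by rw [← h3]; exact hu)
    obtain ⟨a, ha, c, hc, ha4, hc4, hac4⟩ := p.exists_pair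
    have h5 := p.NN.mul_mem (h4 a ha ha4) (h4 c hc hc4)
    have h6 : dd (zz L) a * zz K * (dd (zz L) c * zz K) = dd (zz L) (a * c) := by
      rw [p.dd_hom ha hc]
      calc dd (zz L) a * zz K * (dd (zz L) c * zz K) = dd (zz L) a * (zz K * dd (zz L) c) * zz K := by group
        _ = dd (zz L) a * dd (zz L) c * (zz K * zz K) := by rw [← p.tz (p.dd_T hc)]; group
        _ = _ := by rw [p.zzK, mul_one]
    rw [h6] at h5
    have h7 := h4 _ (mul_mem ha hc) hac4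
    have h8 := p.NN.mul_mem (p.NN.inv_mem h5) h7
    rw [inv_mul_cancel_left] at h8
    exact hzN h8

/-- **X1** -/
theorem x1 (p : XPr Om K K' L L' T R R') (h2 : 2 ∣ Nat.card p.NN) {x : G} (hx : x ∈ K ⊓ R)
    (hx4 : orderOf x = 4) : ∃ y ∈ L ⊓ R', orderOf y = 4 ∧ dd (zz L) x = dd (zz K) y := by
  have h3 := p.dd_NN h2 hx hx4
  have h2' : 2 ∣ Nat.card p.symm.NN := by
    have h4 : p.symm.NN = p.NN := inf_comm _ _
    rw [h4]; exact h2
  rcases p.symm.of_sq (p.symm.mem_EE.1 h3.2).1 (p.dd_T hx) (p.dd_sq hx hx4) (p.dd_ne hx hx4) with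
    h4 | ⟨y, hy, hy4, h4⟩
  · exfalso
    apply p.zL_not_sup
    rw [← h4]
    exact p.dd_sup hx
  · refine ⟨y, hy, hy4, ?_⟩
    rcases h4 with h4 | h4
    · exact h4
    · exfalso
      apply p.zL_not_sup
      have h5 : dd (zz K) y ∈ K ⊔ K' := (p.symm.symm.mem_EE.1 (p.symm.dd_NN h2' hy hy4).2).1
      have h6 := mul_mem (inv_mem h5) (p.dd_sup hx)
      rwa [h4, inv_mul_cancel_left] at h6

/-- a 2-element of `T` perpendicular to `K` centralises `K ∩ R` -/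
theorem perp_cent (p : XPr Om K K' L L' T R R') {a : G} (ha : a ∈ T) (hp : Perp a K) :
    ∀ x ∈ K ⊓ R, a * x = x * a :=
  hp.cent p.b.hyp p.m.hK p.hQ (by
    rw [mem_normalizer_iff_cj, cj_inf, mem_normalizer_iff_cj.1 hp.mem,
      mem_normalizer_iff_cj.1 (le_normalizer (p.TR ha))])

theorem pp_cent' (p : XPr Om K K' L L' T R R') {a : G} (ha : a ∈ T) (hp : Perp a K) :
    ∀ x ∈ K ⊓ R, a * (zz L * x * (zz L)⁻¹) = zz L * x * (zz L)⁻¹ * a := by
  intro x hx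
  have h1 : Commute a x := p.perp_cent ha hp x hx
  have h2 : Commute a (zz L) := p.tt ha
  exact ((h2.mul_right h1).mul_right h2.inv_right).eq

/-- **CHI**, first form: `f ∈ T`, `f ⊥ z`, `f ∈ N(L)` ==> `f ⊥ s` -/
theorem chi (p : XPr Om K K' L L' T R R') (hN : NP Om) {f : G} (hf : f ∈ T) (hp : PP Om f (zz K))
    (hfL : f ∈ normalizer (L : Set G)) : PP Om f (zz L) := by
  have h2 := p.even_NN hN
  have h2' : 2 ∣ Nat.card p.symm.NN := by
    have h4 : p.symm.NN = p.NN := inf_comm _ _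
    rw [h4]; exact h2
  have hfK : Perp f K := hp K p.m.hK rfl
  have h1 : ∀ y ∈ L ⊓ R', f * y = y * f := by
    apply p.symm.core hf hfL
    · intro y hy hy4
      obtain ⟨x, hx, hx4, h3⟩ := p.symm.x1 h2' hy hy4
      rw [h3, dd]
      have e1 : Commute f x := p.perp_cent hf hfK x hx
      have e2 : Commute f (zz L * x * (zz L)⁻¹) := p.pp_cent' hf hfK x hx
      exact (e1.mul_right e2).eq
    · intro y hy y1 hy1 hy4 hy14
      obtain ⟨x, hx, hx4, h3⟩ := p.symm.x1 h2' hy hy4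
      obtain ⟨x1, hx1, hx14, h4⟩ := p.symm.x1 h2' hy1 hy14
      obtain ⟨g, hg, hgA, hgd⟩ := p.dc' (A := zpowers f) (zpowers_le.2 hf) (by
        rintro _ ⟨k, rfl⟩
        exact hfK.zpow k) hx hx1 hx4 hx14
      refine ⟨g, hgA f (mem_zpowers f), p.EE_s hg, p.EE_z hg, ?_⟩
      rw [h3, h4]
      exact hgd
  have h5 : Perp f L := ⟨p.tp.to_le (zpowers_le.2 hf), hfL, L ⊓ R', p.symm.hQ, h1⟩
  refine P.pp_of_mate p.b p.m' h5 ?_
  rw [← p.zL]
  exact h5.cj_comm (p.tz hf).symm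

end XPr

/-- **(XD)** -/
theorem xd (b : TwoEq Om) (k1 : K1 Om) (hS : NSym Om) (hN : NP Om) {K L : Subgroup G} (hK : K ∈ Om) (hL : L ∈ Om)
    (hc : zz K * zz L = zz L * zz K) (nK : zz L ∉ normalizer (K : Set G)) {A : Subgroup G}
    (hA : IsPGroup 2 A) (hAz : A ≤ centralizer {zz K} ⊓ centralizer {zz L}) (hP : ∀ a ∈ A, PP Om a (zz K)) :
    ∃ x ∈ K, ∃ y ∈ L, TT Om K (cj (zz L) K) x (zz L * x * (zz L)⁻¹) ∧
      TT Om L (cj (zz K) L) y (zz K * y * (zz K)⁻¹) ∧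
      x * (zz L * x * (zz L)⁻¹) = y * (zz K * y * (zz K)⁻¹) ∧
      (∀ a ∈ A, a * x = x * a ∧ a * (zz L * x * (zz L)⁻¹) = zz L * x * (zz L)⁻¹ * a) ∧
      ((∀ a ∈ A, PP Om a (zz L)) →
        ∀ a ∈ A, a * y = y * a ∧ a * (zz K * y * (zz K)⁻¹) = zz K * y * (zz K)⁻¹ * a) := by
  obtain ⟨K', L', T, R, R', p, hAT⟩ := exists_xpr b k1 hS hK hL hc nK hA hAz
  obtain ⟨x, hx, -, -, hx4, -, -⟩ := p.exists_pair
  obtain ⟨y, hy, hy4, hxy⟩ := p.x1 (p.even_NN hN) hx hx4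
  have h1 := p.tt' hx hx4
  have h2 := p.symm.tt' hy hy4
  refine ⟨x, hx.1, y, hy.1, by rw [p.sK]; exact h1, by rw [p.zL]; exact h2, hxy, ?_, ?_⟩
  · intro a ha
    have h3 := hP a ha K hK rfl
    exact ⟨p.perp_cent (hAT ha) h3 x hx, p.pp_cent' (hAT ha) h3 x hx⟩
  · intro hP' a ha
    have h3 := hP' a ha L hL rfl
    exact ⟨p.symm.perp_cent (hAT ha) h3 y hy, p.symm.pp_cent' (hAT ha) h3 y hy⟩

/-- **(CHI0)** -/
theorem chi0 (b : TwoEq Om) (k1 : K1 Om) (hS : NSym Om) (hN : NP Om) {K L : Subgroup G} (hK : K ∈ Om) (hL : L ∈ Om)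
    (hc : zz K * zz L = zz L * zz K) (nK : zz L ∉ normalizer (K : Set G)) {f : G} (hp : PP Om f (zz K))
    (hfs : f * zz L = zz L * f) : PP Om f (zz L) ∨ PP Om (f * zz K) (zz L) := by
  have hfK : Perp f K := hp K hK rfl
  have hfz : f * zz K = zz K * f := b.hyp.comm_zz hK hfK.mem
  obtain ⟨K', L', T, R, R', p, hAT⟩ := exists_xpr b k1 hS hK hL hc nK hfK.p (by
    rw [zpowers_le]
    exact ⟨mem_centralizer_singleton_iff.2 hfz, mem_centralizer_singleton_iff.2 hfs⟩)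
  have hfT : f ∈ T := hAT (mem_zpowers f)
  rcases b.norm_or p.m' hfs with h1 | h1
  · exact Or.inl (p.chi hN hfT hp h1)
  · right
    apply p.chi hN (T.mul_mem hfT p.zK_T) ?_ (b.swap_mul p.m' h1 p.zL)
    exact PP.mul b.hyp p.tp hfT p.zK_T hp (TwoPF.pp_self b.hyp)

/-- **PRINCIPLE X**: `z s` is conjugate to an element `x⁻¹ xˢ` -/
theorem px (b : TwoEq Om) (k1 : K1 Om) (hS : NSym Om) (hN : NP Om) {K L : Subgroup G} (hK : K ∈ Om) (hL : L ∈ Om)
    (hc : zz K * zz L = zz L * zz K) (nK : zz L ∉ normalizer (K : Set G)) {A : Subgroup G}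
    (hA : IsPGroup 2 A) (hAz : A ≤ centralizer {zz K} ⊓ centralizer {zz L}) (hP : ∀ a ∈ A, PP Om a (zz L)) :
    ∃ x ∈ K, ∃ y ∈ L, TT Om K (cj (zz L) K) x⁻¹ (zz L * x * (zz L)⁻¹) ∧ orderOf y = 4 ∧
      (∀ a ∈ A, a * y = y * a) ∧ y⁻¹ * (zz K * zz L) * y = x⁻¹ * (zz L * x * (zz L)⁻¹) ∧
      y⁻¹ * zz K * y = x⁻¹ * (zz L * x * (zz L)⁻¹) * zz L := by
  obtain ⟨K', L', T, R, R', p, hAT⟩ := exists_xpr b k1 hS hK hL hc nK hA hAz
  obtain ⟨x, hx, -, -, hx4, -, -⟩ := p.exists_pair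
  obtain ⟨y, hy, hy4, hxy⟩ := p.x1 (p.even_NN hN) hx hx4
  have h1 := p.tt' hx hx4
  have hyy := p.symm.sq hy.1 hy4
  have hxx := p.sq hx.1 hx4
  have hys := p.symm.xz hy.1
  have hyi : y⁻¹ = y * zz L := by
    rw [inv_eq_iff_mul_eq_one, ← mul_assoc, hyy, p.zzL]
  have hxi : x⁻¹ = x * zz K := by
    rw [inv_eq_iff_mul_eq_one, ← mul_assoc, hxx, p.zzK]
  have hd := p.tz (p.dd_T hx)
  have hds := p.dd_s hx
  have hxz := p.xz hx.1
  -- `y⁻¹ z y = s d z`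
  have e1 : y⁻¹ * zz K * y = zz L * dd (zz L) x * zz K := by
    have e2 : y * (zz K * y * (zz K)⁻¹) = dd (zz L) x := hxy.symm
    calc y⁻¹ * zz K * y = (y * zz L) * zz K * y := by rw [hyi]
      _ = (zz L * y) * zz K * y := by rw [hys]
      _ = zz L * (y * (zz K * y * (zz K)⁻¹)) * zz K := by group
      _ = _ := by rw [e2]
  have e3 : x⁻¹ * (zz L * x * (zz L)⁻¹) = dd (zz L) x * zz K := by
    rw [hxi, hxz, hd, dd]; group
  have e4 : y⁻¹ * zz K * y = x⁻¹ * (zz L * x * (zz L)⁻¹) * zz L := by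
    rw [e1, e3]
    calc zz L * dd (zz L) x * zz K = dd (zz L) x * (zz L * zz K) := by rw [← hds]; group
      _ = _ := by rw [← hc]; group
  refine ⟨x, hx.1, y, hy.1, ?_, hy4, fun a ha => p.symm.perp_cent (hAT ha) (hP a ha L hL rfl) y hy, ?_, e4⟩
  · rw [p.sK]; exact h1.inv_left
  · have e5 : y⁻¹ * zz L * y = zz L := by
      calc y⁻¹ * zz L * y = y⁻¹ * (y * zz L) := by rw [hys]; group
        _ = zz L := by group
    calc y⁻¹ * (zz K * zz L) * y = (y⁻¹ * zz K * y) * (y⁻¹ * zz L * y) := by group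
      _ = x⁻¹ * (zz L * x * (zz L)⁻¹) * (zz L * zz L) := by rw [e4, e5]; group
      _ = _ := by rw [p.zzL, mul_one]

end Cfsg.Agent.Cit.TwoX
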