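import Cfsg.Agent.Cit.TwoPF.Defs
import Cfsg.Agent.Cit.TwoFK.Fam
import Cfsg.Agent.Lib.ProductSet
import Cfsg.Agent.Lib.SylowNormalInf

/-!
# `|Om(S)| = 2`, equal involutions: the join of two mates

* `syl_sup_inf`: `(A ∩ R)(B ∩ R)` is a Sylow 2-subgroup of `A B`;
* `exists_mul_QQ`: `R ∩ (K K') = (K ∩ R)(K' ∩ R)`;
* `inf_mem_OO`: `K ∩ K' ≤ ⟨z⟩ O(K)`;
* `dcA`: Lemma DC relative to a 2-group `A` centralising `K ∩ R`.
-/

set_option autoImplicit false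
set_option linter.style.haveILetI false
set_option linter.unusedSectionVars false
set_option linter.unusedVariables false

namespace Cfsg.Agent.Cit.TwoX

open Subgroup Cfsg Cit OneBasic TwoFK TwoPF

variable {G : Type*} [Group G] [Finite G]

theorem card_sup_mul {A B : Subgroup G} (hn : B ≤ normalizer (A : Set G)) :
    Nat.card (A ⊔ B : Subgroup G) * Nat.card (A ⊓ B : Subgroup G) = Nat.card A * Nat.card B := by
  have h1 := Lib.ProductSet.card_mul_card_inf B A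
  rw [← Subgroup.coe_mul_of_left_le_normalizer_right B A hn] at h1
  rw [sup_comm, inf_comm, mul_comm (Nat.card A)]
  exact h1

theorem card_eq_mul_relIndex {Q K : Subgroup G} (h : Q ≤ K) : Nat.card K = Nat.card Q * Q.relIndex K := by
  rw [Subgroup.relIndex, ← Nat.card_congr (Subgroup.subgroupOfEquivOfLe h).toEquiv]
  exact (Subgroup.card_mul_index _).symm

theorem syl_card {Q K : Subgroup G} (h : Syl Q K) : ∃ m, Odd m ∧ Nat.card K = Nat.card Q * m := by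
  refine ⟨Q.relIndex K, ?_, card_eq_mul_relIndex h.1⟩
  rw [← Nat.not_even_iff_odd, even_iff_two_dvd]
  exact h.2.2

/-- the intersection of a Sylow 2-subgroup of `A` with a normal subgroup of `A` -/
theorem syl_inf_nrm {S A B : Subgroup G} (hS : Syl S A) (hB : B ≤ A)
    (hn : A ≤ normalizer (B : Set G)) : Syl (S ⊓ B) B := by
  haveI : Fact (Nat.Prime 2) := ⟨Nat.prime_two⟩
  obtain ⟨P, hP⟩ := hS.exists_sylow
  haveI : (B.subgroupOf A).Normal := (normal_subgroupOf_iff_le_normalizer hB).2 hn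
  have h1 := Lib.SylowNormalInf.not_dvd_relIndex P (B.subgroupOf A)
  rw [hP, relIndex_subgroupOf hB] at h1
  exact ⟨inf_le_right, hS.2.1.to_le inf_le_left, by rwa [inf_relIndex_right]⟩

/-- the Sylow 2-subgroup of a join -/
theorem syl_sup_inf {A B R : Subgroup G} (hR : IsPGroup 2 R) (hA : Syl (A ⊓ R) A) (hB : Syl (B ⊓ R) B)
    (hBA : B ≤ normalizer (A : Set G)) (hAB : A ≤ normalizer (B : Set G)) :
    Syl ((A ⊓ R) ⊔ (B ⊓ R)) (A ⊔ B) := by
  have hn : B ⊓ R ≤ normalizer ((A ⊓ R : Subgroup G) : Set G) := by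
    intro g hg
    rw [mem_normalizer_iff_cj, cj_inf, mem_normalizer_iff_cj.1 (hBA hg.1),
      mem_normalizer_iff_cj.1 (le_normalizer hg.2)]
  have hn' : A ≤ normalizer ((A ⊓ B : Subgroup G) : Set G) := by
    intro g hg
    rw [mem_normalizer_iff_cj, cj_inf, mem_normalizer_iff_cj.1 (le_normalizer hg),
      mem_normalizer_iff_cj.1 (hAB hg)]
  have h0 : Syl ((A ⊓ R) ⊓ (A ⊓ B)) (A ⊓ B) := syl_inf_nrm hA inf_le_left hn'
  have h3 : (A ⊓ R) ⊓ (B ⊓ R) = (A ⊓ R) ⊓ (A ⊓ B) := by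
    ext x
    simp only [mem_inf]
    tauto
  have hX : (A ⊓ R) ⊔ (B ⊓ R) ≤ R := sup_le inf_le_right inf_le_right
  have hXle : (A ⊓ R) ⊔ (B ⊓ R) ≤ A ⊔ B := sup_le_sup inf_le_left inf_le_left
  refine ⟨hXle, hR.to_le hX, ?_⟩
  obtain ⟨a, ha, ea⟩ := syl_card hA
  obtain ⟨b, hb, eb⟩ := syl_card hB
  obtain ⟨c, hc, ec⟩ := syl_card h0
  have e1 := card_sup_mul hBA
  have e2 := card_sup_mul hn
  rw [h3] at e2
  rw [card_eq_mul_relIndex hXle, ea, eb, ec] at e1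
  obtain ⟨i, hi⟩ : ∃ i, i = ((A ⊓ R) ⊔ (B ⊓ R)).relIndex (A ⊔ B) := ⟨_, rfl⟩
  rw [← hi] at e1 ⊢
  have e3 : (Nat.card ↥(A ⊓ R) * Nat.card ↥(B ⊓ R)) * (i * c) = (Nat.card ↥(A ⊓ R) * Nat.card ↥(B ⊓ R)) * (a * b) := by
    rw [← e2]
    calc _ = (Nat.card ↥((A ⊓ R) ⊔ (B ⊓ R)) * i) * (Nat.card ↥((A ⊓ R) ⊓ (A ⊓ B)) * c) := by ring
      _ = _ := by rw [e1]; rw [e2]; ring
  have e4 : i * c = a * b := Nat.eq_of_mul_eq_mul_left (Nat.mul_pos Nat.card_pos Nat.card_pos) e3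
  intro h2
  have h5 : Odd (i * c) := by rw [e4]; exact ha.mul hb
  rw [← Nat.not_even_iff_odd] at h5
  exact h5 (even_iff_two_dvd.2 (h2.mul_right c))

variable {Om : Set (Subgroup G)} {K K' R : Subgroup G}

/-- elements of the join of two mates centralise `z` -/
theorem sup_comm_zz (b : TwoEq Om) (m : Mate Om K K') {g : G} (hg : g ∈ K ⊔ K') : g * zz K = zz K * g := by
  have h1 : K ⊔ K' ≤ centralizer {zz K} := by
    refine sup_le (b.hyp.le_centralizer m.hK) ?_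
    rw [m.zz]
    exact b.hyp.le_centralizer m.hL
  exact mem_centralizer_singleton_iff.1 (h1 hg)

theorem sup_norm (b : TwoEq Om) (m : Mate Om K K') {g : G} (hg : g ∈ K ⊔ K') :
    g ∈ normalizer (K : Set G) :=
  (sup_le le_normalizer (m.symm.le_normalizer b.hyp) : K ⊔ K' ≤ normalizer (K : Set G)) hg

theorem cj_sup_eq (b : TwoEq Om) (m : Mate Om K K') {g : G} (hg : g * zz K = zz K * g) :
    cj g (K ⊔ K') = K ⊔ K' := by
  rw [cj_sup]
  rcases b.cj_or m hg with ⟨h1, h2⟩ | ⟨h1, h2⟩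
  · rw [h1, h2]
  · rw [h1, h2, sup_comm]

theorem conj_mem_sup (b : TwoEq Om) (m : Mate Om K K') {g x : G} (hg : g * zz K = zz K * g)
    (hx : x ∈ K ⊔ K') : g * x * g⁻¹ ∈ K ⊔ K' := by
  have := conj_mem_cj (g := g) hx
  rwa [cj_sup_eq b m hg] at this

/-- `R ∩ (K K') = (K ∩ R)(K' ∩ R)` -/
theorem exists_mul_QQ (b : TwoEq Om) (m : Mate Om K K') (hR : Syl R (centralizer {zz K})) {u : G}
    (hu : u ∈ K ⊔ K') (huR : u ∈ R) : ∃ q ∈ K ⊓ R, ∃ q' ∈ K' ⊓ R, u = q * q' := by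
  have hQ : Syl (K ⊓ R) K := b.syl_inf m.hK hR
  have hQ' : Syl (K' ⊓ R) K' := b.syl_inf m.hL (by rw [← m.zz]; exact hR)
  have h1 := syl_sup_inf hR.2.1 hQ hQ' (m.symm.le_normalizer b.hyp) (m.le_normalizer b.hyp)
  have h2 : (K ⊓ R) ⊔ (K' ⊓ R) = R ⊓ (K ⊔ K') :=
    syl_eq_of_le h1 (hR.2.1.to_le inf_le_left) inf_le_right (le_inf (sup_le inf_le_right inf_le_right) h1.1)
  have h3 : u ∈ (K ⊓ R) ⊔ (K' ⊓ R) := by rw [h2]; exact ⟨huR, hu⟩
  refine exists_mul_of_mem_sup ?_ h3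
  intro g hg
  rw [mem_normalizer_iff_cj, cj_inf, mem_normalizer_iff_cj.1 (m.le_normalizer b.hyp hg.1),
    mem_normalizer_iff_cj.1 (le_normalizer hg.2)]

/-- `(K ∩ R) ∩ K' ≤ ⟨z⟩` -/
theorem inf_inf' (b : TwoEq Om) (m : Mate Om K K') (hR : Syl R (centralizer {zz K})) {a : G} (ha : a ∈ K ⊓ R)
    (ha' : a ∈ K') : a = 1 ∨ a = zz K := by
  rcases Cit.inf_inf_le b.hyp hR.2.1 (b.mem_OmS m.hK hR) (b.mem_OmS_mate m hR) m.ne ha ha' with h | h
  · exact Or.inl h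
  · exact Or.inr h.1

/-- `K ∩ K' ≤ ⟨z⟩ O(K)` -/
theorem inf_mem_OO (b : TwoEq Om) (m : Mate Om K K') {c : G} (hc : c ∈ K) (hc' : c ∈ K') :
    c ∈ OO K ∨ c * zz K ∈ OO K := by
  have hcom := (b.hyp.h2 K m.hK K' m.hL m.zz).resolve_left m.ne
  -- an element of odd order lies in `O(K)`
  have key : ∀ c ∈ K, c ∈ K' → Odd (orderOf c) → c ∈ OO K := by
    intro c hc hc' ho
    have h1 : zpowers c ⊔ OO K ≤ OO K := by
      refine le_OO (sup_le (zpowers_le.2 hc) (OO_le K)) ?_ ?_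
      · intro x hx
        rw [mem_normalizer_iff_cj]
        refine eq_of_le_of_card_ge ?_ (by rw [card_cj])
        rw [cj_sup, sup_le_iff]
        constructor
        · rw [cj_def, MonoidHom.map_zpowers, zpowers_le]
          change x * c * x⁻¹ ∈ _
          have h2 : x * c * x⁻¹ * c⁻¹ ∈ OO K := (hcom (commutator_mem_commutator hx hc')).1
          have h3 := mul_mem (mem_sup_right h2 : _ ∈ zpowers c ⊔ OO K) (mem_sup_left (mem_zpowers c))
          rwa [inv_mul_cancel_right] at h3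
        · rw [mem_normalizer_iff_cj.1 (le_normalizer_OO K hx)]
          exact le_sup_right
      · intro h2
        have h3 : zpowers c ≤ normalizer ((OO K : Subgroup G) : Set G) :=
          (zpowers_le.2 hc).trans (le_normalizer_OO K)
        have h4 := card_sup_mul h3
        rw [sup_comm] at h4
        have h5 : 2 ∣ Nat.card (OO K) * Nat.card (zpowers c) := by
          rw [← h4]; exact h2.mul_right _
        rcases (Nat.Prime.dvd_mul Nat.prime_two).1 h5 with h6 | h6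
        · exact odd_OO K h6
        · rw [Nat.card_zpowers] at h6
          rw [← Nat.not_even_iff_odd] at ho
          exact ho (even_iff_two_dvd.2 h6)
    exact h1 (mem_sup_left (mem_zpowers c))
  have hz : zz K * zz K = 1 := b.hyp.zz_mul m.hK
  have hcz : c * zz K = zz K * c := b.hyp.comm_zz m.hK (le_normalizer hc)
  obtain ⟨k, hk, hk2⟩ := OneFieldHom.exists_odd_pow c
  -- the 2-part
  have h2 : c ^ k = 1 ∨ c ^ k = zz K := by
    obtain ⟨R, hR, hcR⟩ := OneBasic.exists_syl_ge hk2 (M := centralizer {zz K}) (by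
      rw [zpowers_le]
      exact (centralizer {zz K}).pow_mem (mem_centralizer_singleton_iff.2 hcz) k)
    exact inf_inf' b m hR ⟨K.pow_mem hc k, hcR (mem_zpowers _)⟩ (K'.pow_mem hc' k)
  have hodd : ∀ u : G, u ^ k = 1 → Odd (orderOf u) := fun u hu => hk.of_dvd_nat (orderOf_dvd_of_pow_eq_one hu)
  rcases h2 with h2 | h2
  · exact Or.inl (key c hc hc' (hodd c h2))
  · right
    refine key _ (K.mul_mem hc (b.hyp.zz_mem m.hK)) (K'.mul_mem hc' (by rw [m.zz]; exact b.hyp.zz_mem m.hL))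
      (hodd _ ?_)
    rw [(show Commute c (zz K) from hcz).mul_pow, h2]
    obtain ⟨j, rfl⟩ := hk
    rw [pow_succ, pow_mul, pow_two, hz, one_pow, one_mul, hz]

/-- **Lemma DC** relative to a 2-group `A` centralising `K ∩ R` -/
theorem dcA (b : TwoEq Om) (hk1 : K1 Om) (m : Mate Om K K') {Q : Subgroup G} (hQ : Syl Q K) {s : G}
    (hs : s * s = 1) (hsK : cj s K = K') {A T : Subgroup G} (hT : IsPGroup 2 T) (hAT : A ≤ T) (hsT : s ∈ T)
    (hTz : ∀ t ∈ T, t * zz K = zz K * t)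
    (hAK : A ≤ normalizer (K : Set G)) (hAQ : ∀ a ∈ A, ∀ q ∈ Q, a * q = q * a) (hAs : ∀ a ∈ A, a * s = s * a)
    {k l : G} (hk : k ∈ Q) (hl : l ∈ Q) (hk4 : orderOf k = 4) (hl4 : orderOf l = 4)
    (hkT : k * (s * k * s⁻¹) ∈ T) (hlT : l * (s * l * s⁻¹) ∈ T) :
    ∃ g ∈ K ⊔ K', g * s = s * g ∧ (∀ a ∈ A, g * a = a * g) ∧
      g * (k * (s * k * s⁻¹)) * g⁻¹ = l * (s * l * s⁻¹) := by
  obtain ⟨g0, hg0, hg0A, hg0k⟩ := b.hyp.conj_four_rel m.hK (hk1 K m.hK) hQ (hT.to_le hAT) hAK hAQ hk hl hk4 hl4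
  have hzi : s⁻¹ = s := inv_eq_of_mul_eq_one_right hs
  have hsL : cj s K' = K := by rw [← hsK, ← cj_mul, hs, cj_one]
  have hcom := (b.hyp.h2 K m.hK K' m.hL m.zz).resolve_left m.ne
  obtain ⟨N, hNdef⟩ : ∃ N, N = OO K ⊓ OO K' := ⟨_, rfl⟩
  have hodd : ¬ 2 ∣ Nat.card N := by
    rw [hNdef]
    exact fun h2 => odd_OO K (h2.trans (card_dvd_of_le inf_le_left))
  have hKLN : ⁅K, K'⁆ ≤ N := by rw [hNdef]; exact hcom
  have hNn : ∀ g : G, g * zz K = zz K * g → g ∈ normalizer (N : Set G) := by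
    intro g hg
    rw [mem_normalizer_iff_cj, hNdef, cj_inf, ← OO_cj, ← OO_cj]
    rcases b.cj_or m hg with ⟨h1, h2⟩ | ⟨h1, h2⟩
    · rw [h1, h2]
    · rw [h1, h2, inf_comm]
  have hN' : N ≤ K ⊔ K' := by rw [hNdef]; exact (inf_le_left.trans (OO_le K)).trans le_sup_left
  have hKLc : ∀ g ∈ K ⊔ K', g * zz K = zz K * g := fun g hg => sup_comm_zz b m hg
  obtain ⟨g0', hg0'⟩ : ∃ g, g = s * g0 * s⁻¹ := ⟨_, rfl⟩
  obtain ⟨k', hk'⟩ : ∃ g, g = s * k * s⁻¹ := ⟨_, rfl⟩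
  obtain ⟨l', hl'⟩ : ∃ g, g = s * l * s⁻¹ := ⟨_, rfl⟩
  have hg0'L : g0' ∈ K' := by rw [hg0', ← hsK]; exact conj_mem_cj hg0
  have hk'L : k' ∈ K' := by rw [hk', ← hsK]; exact conj_mem_cj (hQ.1 hk)
  have hl'L : l' ∈ K' := by rw [hl', ← hsK]; exact conj_mem_cj (hQ.1 hl)
  have e1 : g0' * k' * g0'⁻¹ = l' := by rw [hg0', hk', hl', ← hg0k]; group
  rw [← hk'] at hkT ⊢
  rw [← hl'] at hlT ⊢
  have hg0'A : ∀ a ∈ A, g0' * a = a * g0' := by
    intro a ha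
    have h1 : Commute a s := hAs a ha
    have h2 : Commute a g0 := (hg0A a ha).symm
    rw [hg0']
    exact ((h1.mul_right h2).mul_right h1.inv_right).eq.symm
  have hc1 : ∀ a ∈ K, ∀ b ∈ K', a * b * a⁻¹ * b⁻¹ ∈ N := fun a ha b hb =>
    hKLN (commutator_mem_commutator ha hb)
  have hKN : ∀ a ∈ K ⊔ K', ∀ n ∈ N, a * n * a⁻¹ ∈ N := fun a ha n hn =>
    (mem_normalizer_iff.1 (hNn a (hKLc a ha)) n).1 hn
  have hz1 : (g0 * g0') * s * (g0 * g0')⁻¹ * s⁻¹ ∈ N := by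
    have h1 := hc1 g0 hg0 g0' hg0'L
    have h2 : (g0 * g0') * s * (g0 * g0')⁻¹ * s⁻¹ = g0 * g0' * g0⁻¹ * g0'⁻¹ := by
      have h3 : g0' * s = s * g0 := by rw [hg0']; group
      have h4 : g0'⁻¹ = s * g0⁻¹ * s⁻¹ := by rw [hg0']; group
      calc (g0 * g0') * s * (g0 * g0')⁻¹ * s⁻¹ = g0 * (g0' * s) * g0'⁻¹ * g0⁻¹ * s⁻¹ := by group
        _ = g0 * (s * g0) * (s * g0⁻¹ * s⁻¹) * g0⁻¹ * s⁻¹ := by rw [h3, h4]
        _ = g0 * (s * g0 * s⁻¹) * (s * s) * g0⁻¹ * (s * s)⁻¹ * s * g0⁻¹ * s⁻¹ := by group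
        _ = g0 * g0' * g0⁻¹ * (s * g0⁻¹ * s⁻¹) := by rw [hs, ← hg0']; group
        _ = _ := by rw [← h4]
    rw [h2]
    exact h1
  have hk2 : (g0 * g0') * (k * k') * (g0 * g0')⁻¹ * (l * l')⁻¹ ∈ N := by
    have h1 : k * g0' * k⁻¹ * g0'⁻¹ ∈ N := hc1 k (hQ.1 hk) g0' hg0'L
    have h2 : g0 * l' * g0⁻¹ * l'⁻¹ ∈ N := hc1 g0 hg0 l' hl'L
    have h3 : g0 * (k * g0' * k⁻¹ * g0'⁻¹)⁻¹ * g0⁻¹ ∈ N := hKN g0 (mem_sup_left hg0) _ (N.inv_mem h1)
    have h4 : l * (g0 * l' * g0⁻¹ * l'⁻¹) * l⁻¹ ∈ N := hKN l (mem_sup_left (hQ.1 hl)) _ h2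
    have h5 := N.mul_mem h3 h4
    have h6 : g0 * (k * g0' * k⁻¹ * g0'⁻¹)⁻¹ * g0⁻¹ * (l * (g0 * l' * g0⁻¹ * l'⁻¹) * l⁻¹) =
        (g0 * g0') * (k * k') * (g0 * g0')⁻¹ * (l * l')⁻¹ := by
      rw [← e1, ← hg0k]
      group
    rw [h6] at h5
    exact h5
  obtain ⟨B, hB⟩ : ∃ B, B = A ⊔ (zpowers s ⊔ zpowers (k * k')) := ⟨_, rfl⟩
  have hBT : B ≤ T := by
    rw [hB]; exact sup_le hAT (sup_le (zpowers_le.2 hsT) (zpowers_le.2 hkT))
  obtain ⟨n, hn, hn2⟩ := conj_mod_odd (N := N) (A := T) (B := cj (g0 * g0') B) hodd hT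
    (fun t ht => hNn t (hTz t ht)) (isPGroup_cj (hT.to_le hBT)) (by
      rw [hB, cj_def, Subgroup.map_sup, Subgroup.map_sup, MonoidHom.map_zpowers, MonoidHom.map_zpowers]
      refine sup_le ?_ (sup_le (zpowers_le.2 ?_) (zpowers_le.2 ?_))
      · rintro _ ⟨a, ha, rfl⟩
        change (g0 * g0') * a * (g0 * g0')⁻¹ ∈ _
        have h1 : (g0 * g0') * a * (g0 * g0')⁻¹ = a := by
          calc (g0 * g0') * a * (g0 * g0')⁻¹ = g0 * (g0' * a) * g0'⁻¹ * g0⁻¹ := by group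
            _ = (g0 * a) * g0⁻¹ := by rw [hg0'A a ha]; group
            _ = a := by rw [hg0A a ha]; group
        rw [h1]
        exact mem_sup_left (hAT ha)
      · change (g0 * g0') * s * (g0 * g0')⁻¹ ∈ _
        have h1 := mul_mem (mem_sup_right hz1 : _ ∈ T ⊔ N) (mem_sup_left hsT)
        rwa [inv_mul_cancel_right] at h1
      · change (g0 * g0') * (k * k') * (g0 * g0')⁻¹ ∈ _
        have h1 := mul_mem (mem_sup_right hk2 : _ ∈ T ⊔ N) (mem_sup_left hlT)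
        rwa [inv_mul_cancel_right] at h1)
  have hmem : ∀ u ∈ B, (g0 * g0') * u * (g0 * g0')⁻¹ ∈ cj (g0 * g0') B := fun u hu => conj_mem_cj hu
  refine ⟨n * (g0 * g0'), mul_mem (hN' hn) (mul_mem (mem_sup_left hg0) (mem_sup_right hg0'L)), ?_, ?_, ?_⟩
  · have h1 := hn2 _ (hmem s (by rw [hB]; exact mem_sup_right (mem_sup_left (mem_zpowers s)))) s hsT hz1
    calc n * (g0 * g0') * s = (n * ((g0 * g0') * s * (g0 * g0')⁻¹) * n⁻¹) * (n * (g0 * g0')) := by group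
      _ = s * (n * (g0 * g0')) := by rw [h1]
  · intro a ha
    have h1 : (g0 * g0') * a * (g0 * g0')⁻¹ = a := by
      calc (g0 * g0') * a * (g0 * g0')⁻¹ = g0 * (g0' * a) * g0'⁻¹ * g0⁻¹ := by group
        _ = (g0 * a) * g0⁻¹ := by rw [hg0'A a ha]; group
        _ = a := by rw [hg0A a ha]; group
    have h2 := hn2 _ (hmem a (by rw [hB]; exact mem_sup_left ha)) a (hAT ha) (by
      rw [h1, mul_inv_cancel]; exact N.one_mem)
    calc n * (g0 * g0') * a = (n * ((g0 * g0') * a * (g0 * g0')⁻¹) * n⁻¹) * (n * (g0 * g0')) := by group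
      _ = a * (n * (g0 * g0')) := by rw [h2]
  · have h1 := hn2 _ (hmem (k * k') (by rw [hB]; exact mem_sup_right (mem_sup_right (mem_zpowers _)))) (l * l')
      hlT hk2
    rw [← h1]
    group

end Cfsg.Agent.Cit.TwoX
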